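import Mathlib.GroupTheory.Sylow
import Mathlib.GroupTheory.Transfer
import Mathlib.GroupTheory.PGroup

/-!
A simplicity criterion in order 504 through the normaliser of a Sylow subgroup of order 9, and the
value of a transfer on an element whose conjugates in the subgroup have the same image.
-/

set_option autoImplicit false
set_option linter.unusedSectionVars false
set_option linter.style.haveILetI false

open scoped Pointwise

namespace Cfsg.Agent.Exceptional

open Subgroup

variable {G : Type*} [Group G]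

/-- The value of a transfer on an element whose conjugate powers in the subgroup have equal images. -/
theorem transfer_eq_map_pow {H : Subgroup G} [H.FiniteIndex] {A : Type*} [CommGroup A] (φ : H →* A)
    (g : G) (hg : g ∈ H)
    (key : ∀ (k : ℕ) (g₀ : G) (hk : g₀⁻¹ * g ^ k * g₀ ∈ H),
      φ ⟨_, hk⟩ = φ ⟨g, hg⟩ ^ k) :
    φ.transfer g = φ ⟨g, hg⟩ ^ H.index := by
  classical
  let := H.fintypeQuotientOfFiniteIndex
  rw [MonoidHom.transfer_eq_prod_quotient_orbitRel_zpowers_quot, index_eq_sum_minimalPeriod H g,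
    ← Finset.prod_pow_eq_pow_sum]
  exact Finset.prod_congr rfl fun q _ => key _ _ _

variable [Finite G]

/-- The frame. -/
structure Frame (P : Subgroup G) : Prop where
  card : Nat.card G = 504
  card_P : Nat.card P = 9
  comm : IsMulCommutative P
  card_N : Nat.card (normalizer (P : Set G)) = 18
  cent : ∀ x ∈ P, x ≠ 1 → ∀ g, Commute g x → g ∈ P

variable {P : Subgroup G}

theorem Frame.mem_comm (h : Frame P) {x y : G} (hx : x ∈ P) (hy : y ∈ P) : Commute x y := by
  have := h.comm
  exact congrArg Subtype.val (mul_comm' (⟨x, hx⟩ : P) ⟨y, hy⟩)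

/-- The subgroup is a trivial intersection subgroup. -/
theorem Frame.ti (h : Frame P) {x g : G} (hx : x ∈ P) (hx1 : x ≠ 1) (hg : g * x * g⁻¹ ∈ P) :
    g ∈ normalizer (P : Set G) := by
  classical
  have hle : ∀ y ∈ P, g * y * g⁻¹ ∈ P := fun y hy => by
    refine h.cent _ hg (fun e => hx1 (conj_eq_one_iff.1 e)) _ ?_
    show g * y * g⁻¹ * (g * x * g⁻¹) = g * x * g⁻¹ * (g * y * g⁻¹)
    rw [show g * y * g⁻¹ * (g * x * g⁻¹) = g * (y * x) * g⁻¹ by group,
      (h.mem_comm hy hx).eq]
    group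
  rw [mem_normalizer_iff]
  refine fun y => ⟨hle y, fun hy => ?_⟩
  let f : P → P := fun z => ⟨g * z * g⁻¹, hle _ z.2⟩
  have hf : Function.Injective f := fun a b e =>
    Subtype.ext (mul_left_cancel (mul_right_cancel (congrArg Subtype.val e :)))
  obtain ⟨z, hz⟩ := Finite.surjective_of_injective hf ⟨_, hy⟩
  have := mul_left_cancel (mul_right_cancel (congrArg Subtype.val hz :))
  rw [← this]
  exact z.2

/-- A set moved regularly by the subgroup has at least nine elements. -/
theorem Frame.nine_le (h : Frame P) {A : Subgroup G} {x : G} (hx : x ∉ P)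
    (hA : ∀ g ∈ P, g * x * g⁻¹ ∈ A) : 9 ≤ Nat.card A := by
  rw [← h.card_P]
  refine Nat.card_le_card_of_injective (fun g : P => (⟨_, hA g g.2⟩ : A)) fun a b e => ?_
  have e' : (a : G) * x * (a : G)⁻¹ = b * x * (b : G)⁻¹ := congrArg Subtype.val e
  by_contra hne
  refine hx (h.cent _ (mul_mem (inv_mem b.2) a.2)
    (fun e1 => hne (Subtype.ext (inv_mul_eq_one.1 e1).symm)) x ?_)
  show x * ((b : G)⁻¹ * a) = (b : G)⁻¹ * a * x
  calc x * ((b : G)⁻¹ * a) = (b : G)⁻¹ * (b * x * (b : G)⁻¹) * a := by group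
    _ = (b : G)⁻¹ * (a * x * (a : G)⁻¹) * a := by rw [e']
    _ = _ := by group

theorem Frame.card_sylow (h : Frame P) : Nat.card P = 3 ^ (Nat.card G).factorization 3 := by
  rw [h.card_P, h.card, show (504 : ℕ) = 3 ^ 2 * 56 by norm_num,
    Nat.factorization_mul (by norm_num) (by norm_num), Finsupp.add_apply,
    Nat.Prime.factorization_pow Nat.prime_three,
    Nat.factorization_eq_zero_of_not_dvd (by norm_num : ¬ 3 ∣ 56)]
  simp

/-- A normal subgroup of order prime to three is trivial. -/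
theorem Frame.eq_bot (h : Frame P) (M : Subgroup G) [M.Normal] (h3 : ¬ 3 ∣ Nat.card M) : M = ⊥ := by
  classical
  haveI : Fact (Nat.Prime 3) := ⟨Nat.prime_three⟩
  haveI : Fact (Nat.Prime 7) := ⟨by decide⟩
  by_contra hne
  have hd : Nat.card M ∣ 504 := h.card ▸ card_subgroup_dvd_card M
  have hMP : ∀ x ∈ M, x ∈ P → x = 1 := by
    intro x hx hxP
    have h1 := orderOf_dvd_natCard (⟨x, hxP⟩ : P)
    have h2 := orderOf_dvd_natCard (⟨x, hx⟩ : M)
    rw [orderOf_mk, h.card_P] at h1
    rw [orderOf_mk] at h2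
    refine orderOf_eq_one_iff.1 (Nat.eq_one_of_dvd_coprimes ?_ h1 h2)
    rw [show (9 : ℕ) = 3 ^ 2 by rfl]
    exact (Nat.prime_three.coprime_iff_not_dvd.2 h3).pow_left 2
  by_cases h7 : 7 ∣ Nat.card M
  · obtain ⟨⟨s, hs⟩, hso⟩ := exists_prime_orderOf_dvd_card' (G := M) 7 h7
    rw [orderOf_mk] at hso
    have hcS : Nat.card (zpowers s) = 7 ^ (Nat.card G).factorization 7 := by
      rw [Nat.card_zpowers, hso, h.card, show (504 : ℕ) = 7 ^ 1 * 72 by norm_num,
        Nat.factorization_mul (by norm_num) (by norm_num), Finsupp.add_apply,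
        Nat.Prime.factorization_pow (show Nat.Prime 7 by decide),
        Nat.factorization_eq_zero_of_not_dvd (by norm_num : ¬ 7 ∣ 72)]
      simp
    let S : Sylow 7 G := Sylow.ofCard (zpowers s) hcS
    have hS : (S : Subgroup G) = zpowers s := Sylow.coe_ofCard _ _
    have hSM : (S : Subgroup G) ≤ M := by rw [hS, zpowers_le]; exact hs
    have htop := Sylow.normalizer_sup_eq_top' S hSM
    obtain ⟨A, hA⟩ : ∃ A, A = normalizer ((S : Subgroup G) : Set G) := ⟨_, rfl⟩
    replace htop : A ⊔ M = ⊤ := by rw [hA]; exact htop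
    have hidx : A.index = A.relIndex M := by
      have e1 := relIndex_mul_index (inf_le_left : A ⊓ M ≤ A)
      have e2 := relIndex_mul_index (inf_le_right : A ⊓ M ≤ M)
      rw [inf_relIndex_left] at e1
      rw [inf_relIndex_right] at e2
      have e3 : M.relIndex A = M.index := by
        rw [← relIndex_sup_right (K := M) (H := A), htop, relIndex_top_right]
      rw [e3, ← e2, mul_comm] at e1
      exact Nat.eq_of_mul_eq_mul_right (Nat.pos_of_ne_zero FiniteIndex.index_ne_zero) e1
    have hA9 : 9 ∣ Nat.card A := by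
      have h1 : A.index ∣ Nat.card M := by rw [hidx]; exact Subgroup.relIndex_dvd_card A M
      have h2 : Nat.card A * A.index = 504 := h.card ▸ card_mul_index A
      have h3' : Nat.Coprime 9 A.index := by
        rw [show (9 : ℕ) = 3 ^ 2 by rfl]
        exact (Nat.prime_three.coprime_iff_not_dvd.2 fun h' => h3 (h'.trans h1)).pow_left 2
      exact h3'.dvd_of_dvd_mul_right (h2 ▸ (by norm_num : 9 ∣ 504))
    obtain ⟨Q, hQ⟩ := Sylow.exists_subgroup_card_pow_prime (G := A) 3 (n := 2) (by simpa using hA9)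
    let P0 : Sylow 3 G := Sylow.ofCard P h.card_sylow
    let Q0 : Sylow 3 G := Sylow.ofCard (Q.map A.subtype) (by
      rw [card_map_of_injective A.subtype_injective, hQ, ← h.card_sylow, h.card_P]; norm_num)
    obtain ⟨g, hg⟩ := MulAction.exists_smul_eq G P0 Q0
    have hP : ∀ x ∈ P, g * x * g⁻¹ ∈ A := by
      intro x hx
      have h1 : g * x * g⁻¹ ∈ (Q0 : Subgroup G) := by
        rw [← hg, Sylow.coe_subgroup_smul, show (P0 : Subgroup G) = P from Sylow.coe_ofCard _ _]
        exact ⟨x, hx, rfl⟩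
      rw [show (Q0 : Subgroup G) = Q.map A.subtype from Sylow.coe_ofCard _ _] at h1
      obtain ⟨y, -, hy⟩ := h1
      rw [← hy]
      exact y.2
    have hz : g⁻¹ * s * g ∉ P := fun hz => by
      have h1 := hMP _ (by simpa using Subgroup.Normal.conj_mem (inferInstance : M.Normal) s hs g⁻¹) hz
      have h2 : s = 1 := by simpa [mul_assoc, inv_mul_eq_one] using h1
      rw [h2, orderOf_one] at hso
      omega
    have h9 := h.nine_le (A := (zpowers s).map (MulAut.conj g⁻¹).toMonoidHom) hz fun x hx => by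
      refine ⟨(g * x * g⁻¹) * s * (g * x * g⁻¹)⁻¹, ?_, by simp; group⟩
      have := (mem_normalizer_iff.1 (hA ▸ hP x hx) s).1 (by rw [hS]; exact mem_zpowers s)
      rwa [hS] at this
    rw [card_map_of_injective (MulAut.conj g⁻¹).injective, Nat.card_zpowers, hso] at h9
    omega
  · have h8 : Nat.card M ≤ 8 := by
      have key : ∀ k ∈ Nat.divisors 504, ¬ 3 ∣ k → ¬ 7 ∣ k → k ≤ 8 := by decide +kernel
      exact key _ (Nat.mem_divisors.2 ⟨hd, by norm_num⟩) h3 h7
    obtain ⟨⟨x, hx⟩, hx1'⟩ := (M.ne_bot_iff_exists_ne_one).1 hne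
    have hx1 : x ≠ 1 := fun e => hx1' (Subtype.ext e)
    have := h.nine_le (A := M) (fun hP => hx1 (hMP x hx hP))
      fun g _ => Subgroup.Normal.conj_mem inferInstance x hx g
    omega

/-- The group is simple. -/
theorem Frame.isSimple (h : Frame P) : IsSimpleGroup G := by
  classical
  haveI : Fact (Nat.Prime 3) := ⟨Nat.prime_three⟩
  haveI : Nontrivial G := Finite.one_lt_card_iff_nontrivial.1 (by rw [h.card]; norm_num)
  refine ⟨fun M hM => ?_⟩
  by_cases h3 : 3 ∣ Nat.card M
  swap
  · exact Or.inl (h.eq_bot M h3)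
  let P0 : Sylow 3 G := Sylow.ofCard P h.card_sylow
  have hP0 : (P0 : Subgroup G) = P := Sylow.coe_ofCard _ _
  obtain ⟨⟨y, hy⟩, hyo⟩ := exists_prime_orderOf_dvd_card' (G := M) 3 h3
  rw [orderOf_mk] at hyo
  obtain ⟨R, hR⟩ := (IsPGroup.of_card (n := 1) (by rw [Nat.card_zpowers, hyo, pow_one]) :
    IsPGroup 3 (zpowers y)).exists_le_sylow
  obtain ⟨g, hg⟩ := MulAction.exists_smul_eq G R P0
  obtain ⟨x, hxM, hxP, hx1⟩ : ∃ x ∈ M, x ∈ P ∧ x ≠ 1 := by
    refine ⟨g * y * g⁻¹, hM.conj_mem y hy g, ?_, fun e => ?_⟩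
    · rw [← hP0, ← hg, Sylow.coe_subgroup_smul]
      exact ⟨y, hR (mem_zpowers y), rfl⟩
    · rw [conj_eq_one_iff.1 e, orderOf_one] at hyo
      omega
  by_cases hN : ∀ g ∈ M, g ∈ normalizer (P : Set G) → g ∈ P
  · exfalso
    obtain ⟨Q, hQ⟩ : ∃ Q : Sylow 3 M, (Q : Subgroup M) = P.subgroupOf M := by
      refine ⟨(IsPGroup.of_card (n := 2) (by rw [h.card_P]; norm_num) |>.comap_subtype).toSylow
        (fun hd => ?_), rfl⟩
      have h1 : P.relIndex M ∣ P.index := by
        haveI := hM
        have e1 := relIndex_mul_index (inf_le_left : P ⊓ M ≤ P)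
        have e2 := relIndex_mul_index (inf_le_right : P ⊓ M ≤ M)
        rw [inf_relIndex_left] at e1
        rw [inf_relIndex_right] at e2
        obtain ⟨c, hc⟩ := Subgroup.relIndex_dvd_index_of_normal M P
        rw [hc, ← e1] at e2
        have ha : 0 < M.relIndex P := Nat.pos_of_ne_zero (fun e => by
          rw [e, zero_mul] at hc; exact FiniteIndex.index_ne_zero hc)
        refine ⟨c, Nat.eq_of_mul_eq_mul_left ha ?_⟩
        rw [← e2]; ring
      exact (hP0 ▸ P0.not_dvd_index) (hd.trans h1)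
    have hNC : normalizer ((Q : Subgroup M) : Set M) ≤ centralizer ((Q : Subgroup M) : Set M) := by
      rw [hQ]
      intro a ha
      have h1 : (a : G) * x * (a : G)⁻¹ ∈ P :=
        (mem_normalizer_iff.1 ha ⟨x, hxM⟩).1 hxP
      have h2 : (a : G) ∈ P := hN _ a.2 (h.ti hxP hx1 h1)
      rw [mem_centralizer_iff]
      exact fun b hb => Subtype.ext (h.mem_comm hb h2).eq
    obtain ⟨K, hK⟩ : ∃ K, K = (MonoidHom.transferSylow Q hNC).ker := ⟨_, rfl⟩
    have hcompl : IsComplement' K (Q : Subgroup M) := hK ▸ MonoidHom.ker_transferSylow_isComplement' Q hNC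
    have hcop : ¬ 3 ∣ Nat.card K := hK ▸ MonoidHom.not_dvd_card_ker_transferSylow Q hNC
    haveI hKn : K.Normal := hK ▸ inferInstance
    have hmem : ∀ k : M, k ∈ K ↔ ¬ 3 ∣ orderOf k := by
      intro k
      refine ⟨fun hk hd => hcop ?_, fun hd => ?_⟩
      · have := orderOf_dvd_natCard (⟨k, hk⟩ : K)
        rw [orderOf_mk] at this
        exact hd.trans this
      · rw [hK, MonoidHom.mem_ker, ← orderOf_eq_one_iff]
        have h1 := orderOf_dvd_natCard (MonoidHom.transferSylow Q hNC k)
        obtain ⟨n, hn⟩ := IsPGroup.iff_card.1 Q.2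
        rw [hn] at h1
        exact Nat.eq_one_of_dvd_coprimes
          ((Nat.prime_three.coprime_iff_not_dvd.2 hd).pow_left n).symm
          (orderOf_map_dvd _ k) h1
    haveI : (K.map M.subtype).Normal := ⟨by
      rintro _ ⟨k, hk, rfl⟩ g
      refine ⟨⟨g * k * g⁻¹, hM.conj_mem k k.2 g⟩, (hmem _).2 ?_, rfl⟩
      rw [← Subgroup.orderOf_coe]
      show ¬ 3 ∣ orderOf (g * (k : G) * g⁻¹)
      rw [show orderOf (g * (k : G) * g⁻¹) = orderOf (k : G) from
        (MulAut.conj g).orderOf_eq (k : G), Subgroup.orderOf_coe]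
      exact (hmem k).1 hk⟩
    have hKb : K = ⊥ := (map_eq_bot_iff_of_injective _ M.subtype_injective).1
      (h.eq_bot (K.map M.subtype) (by rwa [card_map_of_injective M.subtype_injective]))
    rw [hKb] at hcompl
    have hQt := isComplement'_bot_left.1 hcompl
    rw [hQ, subgroupOf_eq_top] at hQt
    have hall : normalizer (P : Set G) = ⊤ := eq_top_iff.2 fun g _ =>
      h.ti hxP hx1 (hQt (hM.conj_mem x hxM g))
    have := h.card_N
    rw [hall, card_top, h.card] at this
    omega
  · right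
    push Not at hN
    obtain ⟨a, haM, haN, haP⟩ := hN
    have hPM : P ≤ M := by
      intro z hz
      let f : P → P := fun w => ⟨(a * w * a⁻¹) * (w : G)⁻¹,
        mul_mem ((mem_normalizer_iff.1 haN _).1 w.2) (inv_mem w.2)⟩
      have hf : Function.Injective f := by
        intro u v e
        have e' : a * u * a⁻¹ * (u : G)⁻¹ = a * v * a⁻¹ * (v : G)⁻¹ := congrArg Subtype.val e
        by_contra hne
        refine haP (h.cent ((v : G)⁻¹ * u) (mul_mem (inv_mem v.2) u.2)
          (fun e1 => hne (Subtype.ext (inv_mul_eq_one.1 e1).symm)) a ?_)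
        show a * ((v : G)⁻¹ * u) = (v : G)⁻¹ * u * a
        have e2 : (v : G)⁻¹ * u = u * (v : G)⁻¹ := (h.mem_comm (inv_mem v.2) u.2).eq
        calc a * ((v : G)⁻¹ * u) = (a * v * a⁻¹)⁻¹ * (a * u * a⁻¹ * (u : G)⁻¹) * u * a := by group
          _ = (v : G)⁻¹ * u * a := by rw [e']; group
      obtain ⟨w, hw⟩ := Finite.surjective_of_injective hf ⟨z, hz⟩
      rw [show z = a * (w : G) * a⁻¹ * (w : G)⁻¹ from (congrArg Subtype.val hw).symm]
      rw [show a * (w : G) * a⁻¹ * (w : G)⁻¹ = a * ((w : G) * a⁻¹ * (w : G)⁻¹) by group]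
      exact mul_mem haM (hM.conj_mem _ (inv_mem haM) _)
    have hNM : normalizer (P : Set G) ≤ M := by
      have h1 : Nat.card P < Nat.card ↥(M ⊓ normalizer (P : Set G)) := by
        refine lt_of_le_of_ne (card_le_of_le (le_inf hPM le_normalizer)) fun e => haP ?_
        rw [eq_of_le_of_card_ge (le_inf hPM le_normalizer) e.ge]
        exact ⟨haM, haN⟩
      have h2 : Nat.card ↥(M ⊓ normalizer (P : Set G)) ∣ 18 := h.card_N ▸ card_dvd_of_le inf_le_right
      have h3 : Nat.card ↥(M ⊓ normalizer (P : Set G)) = 18 := by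
        rw [h.card_P] at h1
        have key : ∀ k ∈ Nat.divisors 18, 9 < k → k = 18 := by decide +kernel
        exact key _ (Nat.mem_divisors.2 ⟨h2, by norm_num⟩) h1
      rw [← eq_of_le_of_card_ge inf_le_right (h.card_N.trans h3.symm).le]
      exact inf_le_left
    haveI := hM
    have htop := Sylow.normalizer_sup_eq_top' (N := M) P0 (hP0.symm ▸ hPM)
    rw [sup_eq_right.2 ?_] at htop
    · exact htop
    · show normalizer ((P0 : Subgroup G) : Set G) ≤ M
      rw [hP0]; exact hNM

end Cfsg.Agent.Exceptional
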