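import Cfsg.Agent.Lib.Chevalley.StSteinberg
import Cfsg.Agent.Lib.Chevalley.Perfect
import Cfsg.Agent.Lib.Chevalley.Types.OrderG2
import Cfsg.Agent.Lib.Chevalley.Types.SimpleG2
import Cfsg.Agent.Lib.Chevalley.Types.StCerts
import Cfsg.Agent.Lib.Chevalley.Types.CoefG2
import Cfsg.Agent.Lib.Classical.UnitarySimple
import Cfsg.Agent.Lib.Classical.UnitaryFrames
import Mathlib.NumberTheory.Zsqrtd.Basic
import Mathlib.LinearAlgebra.Matrix.Notation

/-!
The group of type G2 over two elements acting semilinearly on the unitary space of dimension three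
over nine elements.
-/

set_option autoImplicit false
set_option linter.unusedSectionVars false
set_option linter.style.haveILetI false

open scoped Matrix

namespace Cfsg.Agent.Exceptional.G2Two

open Cfsg.Lie Cfsg.Agent.Chevalley

/-- The Gaussian integers, read modulo three. -/
abbrev E : Type := Zsqrtd (-1 : ℤ)

/-- A semilinear map: a matrix and whether conjugation is applied first. -/
abbrev El : Type := Matrix (Fin 3) (Fin 3) E × Bool

/-- Composition. -/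
def mulE (a b : El) : El := (a.1 * (if a.2 then b.1.map star else b.1), xor a.2 b.2)

/-- The identity map. -/
def oneE : El := (1, false)

/-- The product of a list. -/
def prodE (L : List El) : El := L.foldr mulE oneE

/-- Equality of two scalars modulo three. -/
def eq3 (a b : E) : Bool := decide ((a.re - b.re) % 3 = 0) && decide ((a.im - b.im) % 3 = 0)

/-- Equality of two matrices modulo three. -/
def eqM (A B : Matrix (Fin 3) (Fin 3) E) : Bool :=
  decide (∀ i j, eq3 (A i j) (B i j) = true)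

/-- Equality of two maps modulo three. -/
def eqE (a b : El) : Bool := (a.2 == b.2) && eqM a.1 b.1

/-- The maps of the roots. -/
def gen (r : ℕ) : El :=
  ([
    (!![⟨1, 0⟩, ⟨1, 2⟩, ⟨1, 0⟩; ⟨1, 1⟩, ⟨0, 0⟩, ⟨2, 2⟩; ⟨1, 0⟩, ⟨2, 1⟩, ⟨1, 0⟩], false),
    (!![⟨0, 0⟩, ⟨1, 1⟩, ⟨1, 1⟩; ⟨1, 2⟩, ⟨1, 0⟩, ⟨2, 0⟩; ⟨1, 2⟩, ⟨2, 0⟩, ⟨1, 0⟩], false),
    (!![⟨0, 2⟩, ⟨2, 0⟩, ⟨2, 1⟩; ⟨2, 0⟩, ⟨2, 1⟩, ⟨1, 0⟩; ⟨2, 1⟩, ⟨1, 0⟩, ⟨0, 2⟩], true),
    (!![⟨2, 1⟩, ⟨0, 0⟩, ⟨1, 1⟩; ⟨0, 0⟩, ⟨0, 1⟩, ⟨0, 0⟩; ⟨1, 1⟩, ⟨0, 0⟩, ⟨2, 1⟩], true),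
    (!![⟨0, 1⟩, ⟨0, 1⟩, ⟨2, 1⟩; ⟨0, 1⟩, ⟨1, 1⟩, ⟨2, 0⟩; ⟨2, 1⟩, ⟨2, 0⟩, ⟨0, 2⟩], true),
    (!![⟨0, 0⟩, ⟨0, 0⟩, ⟨1, 0⟩; ⟨0, 0⟩, ⟨2, 0⟩, ⟨0, 0⟩; ⟨1, 0⟩, ⟨0, 0⟩, ⟨0, 0⟩], false),
    (!![⟨1, 0⟩, ⟨0, 1⟩, ⟨2, 1⟩; ⟨0, 2⟩, ⟨1, 0⟩, ⟨2, 2⟩; ⟨2, 2⟩, ⟨2, 1⟩, ⟨0, 0⟩], false),
    (!![⟨0, 0⟩, ⟨0, 0⟩, ⟨0, 1⟩; ⟨0, 0⟩, ⟨1, 0⟩, ⟨0, 0⟩; ⟨0, 1⟩, ⟨0, 0⟩, ⟨0, 0⟩], true),
    (!![⟨0, 1⟩, ⟨0, 2⟩, ⟨2, 1⟩; ⟨0, 2⟩, ⟨2, 1⟩, ⟨0, 2⟩; ⟨2, 1⟩, ⟨0, 2⟩, ⟨0, 1⟩], true),
    (!![⟨1, 2⟩, ⟨0, 0⟩, ⟨1, 1⟩; ⟨0, 0⟩, ⟨0, 1⟩, ⟨0, 0⟩; ⟨1, 1⟩, ⟨0, 0⟩, ⟨1, 2⟩], true),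
    (!![⟨0, 0⟩, ⟨0, 0⟩, ⟨2, 0⟩; ⟨0, 0⟩, ⟨2, 0⟩, ⟨0, 0⟩; ⟨2, 0⟩, ⟨0, 0⟩, ⟨0, 0⟩], false),
    (!![⟨1, 0⟩, ⟨1, 1⟩, ⟨2, 0⟩; ⟨1, 2⟩, ⟨0, 0⟩, ⟨1, 2⟩; ⟨2, 0⟩, ⟨1, 1⟩, ⟨1, 0⟩], false)
  ] : List El).getD r oneE

/-- The product of the maps of a list of roots. -/
def word (L : List ℕ) : El := prodE (L.map gen)

/-- The odd part of the commutator terms. -/
def odd (r s : ℕ) : List ℕ :=
  ((chevG2.commTerms r s).filter fun c => c.2.1.natAbs % 2 == 1).map fun c => c.1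

theorem inv_ok : ((List.range 12).all fun r => decide (chevG2.neg r < 12) &&
      eqE (word [r, r]) oneE &&
      eqE (word [r, chevG2.neg r, r, r, chevG2.neg r, r]) oneE &&
      eqM ((gen r).1ᵀ * (gen r).1.map star) 1 &&
      eq3 ((gen r).1 0 0 * (gen r).1 1 1 * (gen r).1 2 2 - (gen r).1 0 0 * (gen r).1 1 2 * (gen r).1 2 1 -
        (gen r).1 0 1 * (gen r).1 1 0 * (gen r).1 2 2 + (gen r).1 0 1 * (gen r).1 1 2 * (gen r).1 2 0 +
        (gen r).1 0 2 * (gen r).1 1 0 * (gen r).1 2 1 - (gen r).1 0 2 * (gen r).1 1 1 * (gen r).1 2 0) 1)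
      = true := by
  decide +kernel

theorem comm_ok : ((List.range 12).all fun r => (List.range 12).all fun s =>
      Nat.beq s r || (Nat.beq s (chevG2.neg r) || eqE (word [s, r, s, r]) (word (odd r s)))) = true := by
  decide +kernel

theorem pos_ok : ((List.range 12).all fun r => (List.range 12).all fun s =>
    (chevG2.commTerms r s).all fun c => decide (c.1 < 12) && decide (0 < c.2.2.1) &&
      decide (0 < c.2.2.2)) = true := by
  decide +kernel

theorem three_ok : eqE (word [7, 4, 7, 4, 7, 4]) oneE = true ∧ eqE (word [7, 4]) oneE = false ∧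
    (gen 7).2 = true := by
  decide +kernel

variable (K : Type*) [Field K] [Fintype K]

/-- The vectors. -/
abbrev V : Type _ := Fin 3 → K

variable {K}

/-- The data of the unitary space. -/
structure Data (K : Type*) [Field K] [Fintype K] where
  hK : Fintype.card K = 9
  σ : K →+* K
  σ_pow : ∀ x, σ x = x ^ 3
  ι : E →+* K
  ι_star : ∀ a, ι (star a) = σ (ι a)
  ι_three : ι 3 = 0

theorem exists_data (hK : Fintype.card K = 9) : Nonempty (Data K) := by
  haveI : Fact (Nat.Prime 3) := ⟨Nat.prime_three⟩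
  haveI : CharP K 3 := by
    obtain ⟨p, hp⟩ := CharP.exists K
    haveI := hp
    obtain ⟨k, hpp, hc⟩ := FiniteField.card K p
    have h1 : p ∣ 3 ^ 2 := by rw [show (3 : ℕ) ^ 2 = 9 by rfl, ← hK, hc]; exact dvd_pow_self p k.ne_zero
    exact ((Nat.prime_dvd_prime_iff_eq hpp Nat.prime_three).1 (hpp.dvd_of_dvd_pow h1)) ▸ hp
  obtain ⟨i, hi⟩ : IsSquare (-1 : K) := FiniteField.isSquare_neg_one_iff.2 (by rw [hK]; norm_num)
  let ι : E →+* K := Zsqrtd.lift ⟨i, by rw [← hi]; simp⟩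
  refine ⟨⟨hK, frobenius K 3, fun x => frobenius_def 3 x, ι, fun a => ?_, ?_⟩⟩
  · rw [show ι a = (a.re : K) + a.im * i from rfl,
      show ι (star a) = ((star a).re : K) + (star a).im * i from rfl, map_add, map_mul, map_intCast,
      map_intCast, frobenius_def, Zsqrtd.re_star, Zsqrtd.im_star, Int.cast_neg, pow_succ, pow_two,
      ← hi]
    ring
  · rw [map_ofNat]; exact CharP.ofNat_eq_zero K 3

variable (d : Data K)

theorem σσ (x : K) : d.σ (d.σ x) = x := by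
  rw [d.σ_pow, d.σ_pow, ← pow_mul]
  have := FiniteField.pow_card x
  rwa [d.hK] at this

/-- Conjugation of a vector, if asked. -/
def cv (e : Bool) (v : V K) : V K := if e then d.σ ∘ v else v

/-- The map of a semilinear datum. -/
def act (a : El) (v : V K) : V K := a.1.map d.ι *ᵥ cv d a.2 v

theorem map_star_ι (B : Matrix (Fin 3) (Fin 3) E) : (B.map star).map d.ι = (B.map d.ι).map d.σ := by
  ext i j; exact d.ι_star _

theorem act_mulE (a b : El) (v : V K) : act d (mulE a b) v = act d a (act d b v) := by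
  obtain ⟨A, e⟩ := a
  obtain ⟨B, f⟩ := b
  cases e <;> simp only [act, mulE, cv, Bool.false_eq_true, if_false, if_true, Bool.false_xor,
    Bool.true_xor, Matrix.map_mul, ← Matrix.mulVec_mulVec]
  congr 1
  rw [map_star_ι]
  have h : (d.σ : K → K) ∘ (B.map d.ι *ᵥ (if f then d.σ ∘ v else v)) =
      (B.map d.ι).map d.σ *ᵥ (d.σ ∘ (if f then d.σ ∘ v else v)) :=
    funext (RingHom.map_mulVec d.σ _ _)
  rw [h]
  congr 1
  cases f
  · rfl
  · funext k; simp [σσ]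

theorem act_oneE (v : V K) : act d oneE v = v := by
  simp [act, oneE, cv, Matrix.map_one]

theorem ι_eq3 {a b : E} (h : eq3 a b = true) : d.ι a = d.ι b := by
  simp only [eq3, Bool.and_eq_true, decide_eq_true_eq] at h
  obtain ⟨k, hk⟩ := Int.dvd_of_emod_eq_zero h.1
  obtain ⟨l, hl⟩ := Int.dvd_of_emod_eq_zero h.2
  have e : a = b + 3 * ⟨k, l⟩ := by ext <;> simp <;> omega
  rw [e, map_add, map_mul, d.ι_three, zero_mul, add_zero]

theorem map_eqM {A B : Matrix (Fin 3) (Fin 3) E} (h : eqM A B = true) : A.map d.ι = B.map d.ι := by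
  ext i j
  exact ι_eq3 d (of_decide_eq_true h i j)

theorem act_eqE {a b : El} (h : eqE a b = true) : act d a = act d b := by
  simp only [eqE, Bool.and_eq_true, beq_iff_eq] at h
  funext v
  rw [act, act, h.1, map_eqM d h.2]

theorem inv_spec {r : ℕ} (hr : r < 12) : chevG2.neg r < 12 ∧ eqE (word [r, r]) oneE = true ∧
    eqE (word [r, chevG2.neg r, r, r, chevG2.neg r, r]) oneE = true ∧
    eqM ((gen r).1ᵀ * (gen r).1.map star) 1 = true ∧
    ((gen r).1.map d.ι).det = 1 := by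
  have h := List.all_eq_true.1 inv_ok r (List.mem_range.2 hr)
  simp only [Bool.and_eq_true, decide_eq_true_eq] at h
  refine ⟨h.1.1.1.1, h.1.1.1.2, h.1.1.2, h.1.2, ?_⟩
  have e := ι_eq3 d h.2
  simp only [map_sub, map_add, map_mul, map_one] at e
  rw [Matrix.det_fin_three]
  exact e

theorem act_invol {r : ℕ} (hr : r < 12) : Function.Involutive (act d (gen r)) := fun v => by
  have h := congrFun (act_eqE d (inv_spec d hr).2.1) v
  simpa [word, prodE, act_mulE, act_oneE] using h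

/-- The flag in the cyclic group of order two. -/
def bs (e : Bool) : Multiplicative (ZMod 2) := if e then Multiplicative.ofAdd 1 else 1

theorem bs_xor (e f : Bool) : bs (xor e f) = bs e * bs f := by revert e f; decide

/-- The image of a root element at parameter one. -/
noncomputable def img1 (r : ℕ) : Equiv.Perm (V K) × Multiplicative (ZMod 2) :=
  if h : r < 12 then ((act_invol d h).toPerm, bs (gen r).2) else 1

/-- The product of root elements of a list. -/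
noncomputable def imgL (L : List ℕ) : Equiv.Perm (V K) × Multiplicative (ZMod 2) :=
  (L.map (img1 d)).prod

theorem imgL_eq : ∀ L : List ℕ, (∀ r ∈ L, r < 12) →
    (∀ v, (imgL d L).1 v = act d (word L) v) ∧ (imgL d L).2 = bs (word L).2
  | [], _ => ⟨fun v => (act_oneE d v).symm, rfl⟩
  | r :: L, h => by
    obtain ⟨h1, h2⟩ := imgL_eq L fun s hs => h s (List.mem_cons_of_mem r hs)
    have hr := h r List.mem_cons_self
    have e : word (r :: L) = mulE (gen r) (word L) := rfl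
    have e' : imgL d (r :: L) = img1 d r * imgL d L := List.prod_cons
    refine ⟨fun v => ?_, ?_⟩
    · rw [e, act_mulE, ← h1, e', Prod.fst_mul, Equiv.Perm.mul_apply, img1, dif_pos hr]
      rfl
    · rw [e, e', Prod.snd_mul, h2, img1, dif_pos hr]
      exact (bs_xor _ _).symm

theorem imgL_of_eqE {L L' : List ℕ} (hL : ∀ r ∈ L, r < 12) (hL' : ∀ r ∈ L', r < 12)
    (h : eqE (word L) (word L') = true) : imgL d L = imgL d L' := by
  obtain ⟨a1, a2⟩ := imgL_eq d L hL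
  obtain ⟨b1, b2⟩ := imgL_eq d L' hL'
  refine Prod.ext (Equiv.ext fun v => by rw [a1, b1, act_eqE d h]) ?_
  simp only [eqE, Bool.and_eq_true, beq_iff_eq] at h
  rw [a2, b2, h.1]

/-- The property of the images: semilinear, unitary, of determinant one. -/
def IsGood (g : Equiv.Perm (V K) × Multiplicative (ZMod 2)) : Prop :=
  ∃ A : Cfsg.SU 3 K 3, ∃ e : Bool, g.2 = bs e ∧
    ∀ v, g.1 v = Cfsg.Agent.Classical.Unitary.mat A *ᵥ cv d e v

theorem good_one : IsGood d 1 :=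
  ⟨1, false, rfl, fun v => (Matrix.one_mulVec v).symm⟩

theorem good_mul : ∀ g g' : Equiv.Perm (V K) × Multiplicative (ZMod 2),
    IsGood d g → IsGood d g' → IsGood d (g * g') := by
  rintro g g' ⟨A, e, he, hA⟩ ⟨B, f, hf, hB⟩
  obtain ⟨B', hB'⟩ : ∃ B' : Cfsg.SU 3 K 3, ∀ w, Cfsg.Agent.Classical.Unitary.mat B' *ᵥ cv d e w =
      cv d e (Cfsg.Agent.Classical.Unitary.mat B *ᵥ w) := by
    cases e
    · exact ⟨B, fun w => by simp [cv]⟩
    · refine ⟨Cfsg.Agent.Classical.Unitary.suMk ((Cfsg.Agent.Classical.Unitary.mat B).map d.σ)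
        ?_ ?_, fun w => ?_⟩
      · rw [show (Cfsg.Agent.Classical.Unitary.mat B).map d.σ =
          d.σ.mapMatrix (Cfsg.Agent.Classical.Unitary.mat B) from rfl, ← RingHom.map_det,
          show (Cfsg.Agent.Classical.Unitary.mat B).det = 1 from B.1.2, map_one]
      · intro u v
        have hu : ∀ u : V K, (Cfsg.Agent.Classical.Unitary.mat B).map d.σ *ᵥ u =
            d.σ ∘ (Cfsg.Agent.Classical.Unitary.mat B *ᵥ (d.σ ∘ u)) := by
          intro u
          funext k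
          rw [Function.comp_apply, RingHom.map_mulVec]
          congr 1
          simp [Function.comp_def, σσ]
        have hh : ∀ u v : V K, Cfsg.hermForm 3 K 3 (d.σ ∘ u) (d.σ ∘ v) =
            d.σ (Cfsg.hermForm 3 K 3 u v) := by
          intro u v
          simp [Cfsg.hermForm, map_sum, map_pow]
        rw [hu, hu, hh, show ∀ x y : V K, Cfsg.hermForm 3 K 3 (Cfsg.Agent.Classical.Unitary.mat B *ᵥ x)
          (Cfsg.Agent.Classical.Unitary.mat B *ᵥ y) = Cfsg.hermForm 3 K 3 x y from B.2, ← hh]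
        congr 1 <;> funext k <;> simp [σσ]
      · rw [Cfsg.Agent.Classical.Unitary.suMk_mulVec]
        funext k
        simp [cv, Function.comp_def, RingHom.map_mulVec]
  refine ⟨A * B', xor e f, by rw [Prod.snd_mul, he, hf, bs_xor], fun v => ?_⟩
  rw [Prod.fst_mul, Equiv.Perm.mul_apply, hA, hB, ← hB', Cfsg.Agent.Classical.Unitary.mul_mulVec]
  congr 2
  cases e <;> cases f <;> simp [cv, Function.comp_def, σσ]

/-- The images. -/
def Good : Subgroup (Equiv.Perm (V K) × Multiplicative (ZMod 2)) where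
  carrier := {g | IsGood d g}
  one_mem' := good_one d
  mul_mem' := good_mul d _ _
  inv_mem' := by
    intro g hg
    have hfin : IsOfFinOrder g := isOfFinOrder_of_finite g
    have e : g⁻¹ = g ^ (orderOf g - 1) := (eq_inv_of_mul_eq_one_left (by
      rw [← pow_succ, Nat.sub_add_cancel hfin.orderOf_pos, pow_orderOf_eq_one])).symm
    show IsGood d g⁻¹
    rw [e]
    generalize orderOf g - 1 = n
    induction n with
    | zero => exact good_one d
    | succ n ih => rw [pow_succ]; exact good_mul d _ _ ih hg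

theorem mem_Good {g : Equiv.Perm (V K) × Multiplicative (ZMod 2)} :
    g ∈ Good d ↔ IsGood d g := Iff.rfl

end Cfsg.Agent.Exceptional.G2Two
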