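import Cfsg.Agent.Lib.Chevalley.Twist.CharTwo
import Cfsg.Agent.Lib.Chevalley.Twist.G2Rels
import Cfsg.Agent.SimpleFacts.ChevalleySylow

/-!
The involutions of the group of type G2 in characteristic two: two classes, of long and short root
elements.
-/

set_option autoImplicit false
set_option linter.unusedSectionVars false

open scoped Matrix

namespace Cfsg.Agent.Exceptional.G2TwoInvol

open Cfsg.Lie Cfsg.Agent.Chevalley Cfsg.Agent.Chevalley.Table Cfsg.Agent.Chevalley.Check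
  Cfsg.Agent.Chevalley.Perfect Cfsg.Agent.Chevalley.Cert Cfsg.Agent.Chevalley.Group
  Cfsg.Agent.Chevalley.Unip Cfsg.Agent.Chevalley.Borel Cfsg.Agent.Chevalley.NormalForm
  Cfsg.Agent.Chevalley.Weyl Cfsg.Agent.Chevalley.Bruhat Cfsg.Agent.Chevalley.Twist

abbrev hC : Certified chevG2 Data.G2.tab := Types.G2.certified

theorem even_ok : ∀ rs ∈ [(6, 8), (6, 9), (6, 11), (7, 10), (7, 11), (8, 10), (8, 11), (9, 10), (9, 11),
    (10, 11)], CharTwo.evenChk Data.G2.tab rs.1 rs.2 = true := by decide +kernel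

theorem terms_ok : commOf Data.G2.tab.E 7 6 = [(8, -1, 1, 1), (9, 1, 2, 1), (10, 1, 3, 1), (11, 1, 3, 2)] ∧
    commOf Data.G2.tab.E 7 8 = [(9, -2, 1, 1), (10, -3, 2, 1), (11, 3, 1, 2)] ∧
    commOf Data.G2.tab.E 7 9 = [(10, 3, 1, 1)] ∧ commOf Data.G2.tab.E 6 10 = [(11, 1, 1, 1)] ∧
    commOf Data.G2.tab.E 8 9 = [(11, 3, 1, 1)] := by decide +kernel

theorem roots_ok : chevG2.nroots = 12 ∧ chevG2.simple 0 = 7 ∧ chevG2.simple 1 = 6 ∧
    chevG2.posRoots = [6, 7, 8, 9, 10, 11] ∧ (∀ r ∈ [6, 7, 8, 9, 10, 11], 0 < Data.G2.tab.phi r) ∧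
    (∀ r ∈ [6, 7, 8, 9, 10, 11], ∀ s ∈ [6, 7, 8, 9, 10, 11], r ≠ s → r ≠ chevG2.neg s) := by
  decide +kernel

theorem wl_ok : chevG2.reflectRoot 0 6 = 10 ∧ chevG2.reflectRoot 0 8 = 9 ∧
    chevG2.reflectRoot 0 9 = 8 ∧ chevG2.reflectRoot 1 7 = 8 ∧ chevG2.reflectRoot 1 10 = 11 ∧
    (∀ i < 2, ∀ r ∈ [0, 1, 5, 6, 10, 11], chevG2.reflectRoot i r ∈ [0, 1, 5, 6, 10, 11]) ∧
    (∀ i < 2, chevG2.cartan i 9 = ([1, 0] : List ℤ).getD i 0 ∧
      chevG2.cartan i 11 = ([0, 1] : List ℤ).getD i 0) := by decide +kernel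

variable {F : Type*} [Field F]

local notation "X" => xg (F := F) hC

theorem lt_nroots {r : ℕ} (h : r < 12) : r < chevG2.nroots := by rwa [roots_ok.1]

variable [CharP F 2]

theorem sq_one (r : ℕ) (t : F) : X r t * X r t = 1 := CharTwo.xg_sq r t

theorem cm {r s : ℕ} (h : (r, s) ∈ [(6, 8), (6, 9), (6, 11), (7, 10), (7, 11), (8, 10), (8, 11), (9, 10),
    (9, 11), (10, 11)]) (t u : F) : Commute (X s u) (X r t) := by
  have hlt : ∀ rs ∈ [(6, 8), (6, 9), (6, 11), (7, 10), (7, 11), (8, 10), (8, 11), (9, 10), (9, 11),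
      (10, 11)], rs.1 < chevG2.nroots ∧ rs.2 < chevG2.nroots := by decide +kernel
  exact CharTwo.even_comm (hlt _ h).1 (hlt _ h).2 (even_ok _ h) t u

theorem comm_list {r s : ℕ} (hr : r ∈ [6, 7, 8, 9, 10, 11]) (hs : s ∈ [6, 7, 8, 9, 10, 11]) (hne : s ≠ r)
    {L : List (ℕ × ℤ × ℕ × ℕ)} (h : commOf Data.G2.tab.E r s = L) (t u : F) :
    X s u * X r t = X r t * X s u *
      ((L.map fun c => X c.1 ((c.2.1 : F) * t ^ c.2.2.1 * u ^ c.2.2.2))).prod := by
  have hlt : ∀ r ∈ [6, 7, 8, 9, 10, 11], r < chevG2.nroots := by decide +kernel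
  rw [xg_comm (F := F) hC (hlt r hr) (hlt s hs) hne (roots_ok.2.2.2.2.2 s hs r hr hne) t u, ← h,
    commOf_eq hC (hlt r hr) (hlt s hs), ChevalleyDatum.commWord, List.map_map]
  simp only [Function.comp_def, CharTwo.neg_eq]

theorem three_eq : (3 : F) = 1 := by linear_combination (_root_.CharTwo.two_eq_zero (R := F))

theorem comm78 (t u : F) :
    X 8 u * X 7 t = X 7 t * X 8 u * (X 10 (t ^ 2 * u) * X 11 (t * u ^ 2)) := by
  rw [comm_list (by simp) (by simp) (by decide) terms_ok.2.1 t u]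
  simp [_root_.CharTwo.neg_eq, three_eq, _root_.CharTwo.two_eq_zero, xg_zero hC]

theorem comm79 (t u : F) : X 9 u * X 7 t = X 7 t * X 9 u * X 10 (t * u) := by
  rw [comm_list (by simp) (by simp) (by decide) terms_ok.2.2.1 t u]
  simp [three_eq]

theorem comm6x (t u : F) : X 10 u * X 6 t = X 6 t * X 10 u * X 11 (t * u) := by
  rw [comm_list (by simp) (by simp) (by decide) terms_ok.2.2.2.1 t u]
  simp

theorem comm89 (t u : F) : X 9 u * X 8 t = X 8 t * X 9 u * X 11 (t * u) := by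
  rw [comm_list (by simp) (by simp) (by decide) terms_ok.2.2.2.2 t u]
  simp [three_eq]

/-- The product over the four higher roots. -/
def Z (c d e f : F) : GL chevG2.Idx F := X 8 c * (X 9 d * (X 10 e * X 11 f))

theorem comm76 (t u : F) :
    X 6 u * X 7 t = X 7 t * X 6 u * Z (t * u) (t ^ 2 * u) (t ^ 3 * u) (t ^ 3 * u ^ 2) := by
  rw [comm_list (by simp) (by simp) (by decide) terms_ok.1 t u]
  simp [Z, _root_.CharTwo.neg_eq, mul_assoc]

theorem Z_zero : Z (0 : F) 0 0 0 = 1 := by simp [Z, xg_zero hC]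

theorem Z_mul (c d e f c' d' e' f' : F) : Z c d e f * Z c' d' e' f' =
    Z (c + c') (d + d') (e + e') (f + f' + c' * d) := by
  have h1 : X 10 e * X 11 f * X 8 c' = X 8 c' * (X 10 e * X 11 f) :=
    ((cm (r := 8) (s := 10) (by simp) c' e).mul_left (cm (r := 8) (s := 11) (by simp) c' f)).eq
  have h2 : ∀ g, X 10 e * X 11 f * X 9 g = X 9 g * (X 10 e * X 11 f) := fun g =>
    ((cm (r := 9) (s := 10) (by simp) g e).mul_left (cm (r := 9) (s := 11) (by simp) g f)).eq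
  have h3 : X 11 (c' * d) * (X 10 e * X 11 f) * X 9 d' =
      X 9 d' * (X 11 (c' * d) * (X 10 e * X 11 f)) := by
    rw [mul_assoc, h2, ← mul_assoc, (cm (r := 9) (s := 11) (by simp) d' (c' * d)).eq]; group
  have h4 : ∀ a b : F, X 11 a * X 10 b = X 10 b * X 11 a := fun a b =>
    (cm (r := 10) (s := 11) (by simp) b a).eq
  calc Z c d e f * Z c' d' e' f'
      = X 8 c * X 9 d * (X 10 e * X 11 f * X 8 c') * (X 9 d' * (X 10 e' * X 11 f')) := by
        simp [Z, mul_assoc]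
    _ = X 8 c * (X 9 d * X 8 c') * (X 10 e * X 11 f) * (X 9 d' * (X 10 e' * X 11 f')) := by
        rw [h1]; group
    _ = X 8 c * X 8 c' * X 9 d * (X 11 (c' * d) * (X 10 e * X 11 f) * X 9 d') *
          (X 10 e' * X 11 f') := by rw [comm89]; group
    _ = (X 8 c * X 8 c') * (X 9 d * X 9 d') * ((X 11 (c' * d) * X 10 e) *
          (X 11 f * X 10 e') * X 11 f') := by rw [h3]; group
    _ = (X 8 c * X 8 c') * ((X 9 d * X 9 d') * (X 10 e * (X 11 (c' * d) * X 10 e') *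
          (X 11 f * X 11 f'))) := by rw [h4, h4 f e']; group
    _ = _ := by
      rw [h4, show X 10 e * (X 10 e' * X 11 (c' * d)) * (X 11 f * X 11 f') =
        (X 10 e * X 10 e') * (X 11 (c' * d) * X 11 f * X 11 f') by group,
        ← xg_add hC, ← xg_add hC, ← xg_add hC, ← xg_add hC, ← xg_add hC, Z]
      ring_nf

theorem Z_six (c d e f b : F) : Z c d e f * X 6 b = X 6 b * Z c d e (f + b * e) := by
  calc Z c d e f * X 6 b = X 8 c * (X 9 d * (X 10 e * (X 11 f * X 6 b))) := by simp [Z, mul_assoc]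
    _ = X 8 c * (X 9 d * ((X 10 e * X 6 b) * X 11 f)) := by
      rw [(cm (r := 6) (s := 11) (by simp) b f).eq]; group
    _ = X 8 c * ((X 9 d * X 6 b) * (X 10 e * (X 11 (b * e) * X 11 f))) := by rw [comm6x]; group
    _ = (X 8 c * X 6 b) * (X 9 d * (X 10 e * (X 11 (b * e) * X 11 f))) := by
      rw [(cm (r := 6) (s := 9) (by simp) b d).eq]; group
    _ = _ := by
      rw [(cm (r := 6) (s := 8) (by simp) b c).eq, ← xg_add hC, Z, add_comm (b * e)]; group

theorem Z_seven (c d e f a : F) :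
    Z c d e f * X 7 a = X 7 a * Z c d (e + a ^ 2 * c + a * d) (f + a * c ^ 2) := by
  have h9 : ∀ g h : F, (X 10 g * X 11 h) * X 9 d = X 9 d * (X 10 g * X 11 h) := fun g h =>
    ((cm (r := 9) (s := 10) (by simp) d g).mul_left (cm (r := 9) (s := 11) (by simp) d h)).eq
  have h4 : ∀ a b : F, X 11 a * X 10 b = X 10 b * X 11 a := fun a b =>
    (cm (r := 10) (s := 11) (by simp) b a).eq
  calc Z c d e f * X 7 a = X 8 c * (X 9 d * (X 10 e * (X 11 f * X 7 a))) := by simp [Z, mul_assoc]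
    _ = X 8 c * (X 9 d * ((X 10 e * X 7 a) * X 11 f)) := by
      rw [(cm (r := 7) (s := 11) (by simp) a f).eq]; group
    _ = X 8 c * ((X 9 d * X 7 a) * (X 10 e * X 11 f)) := by
      rw [(cm (r := 7) (s := 10) (by simp) a e).eq]; group
    _ = (X 8 c * X 7 a) * (X 9 d * (X 10 (a * d) * (X 10 e * X 11 f))) := by rw [comm79]; group
    _ = X 7 a * (X 8 c * ((X 10 (a ^ 2 * c) * X 11 (a * c ^ 2)) * X 9 d *
          (X 10 (a * d) * (X 10 e * X 11 f)))) := by rw [comm78]; group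
    _ = X 7 a * (X 8 c * (X 9 d * (X 10 (a ^ 2 * c) * (X 11 (a * c ^ 2) * X 10 (a * d + e)) *
          X 11 f))) := by rw [h9, xg_add hC 10 (a * d) e]; group
    _ = _ := by
      rw [h4, show X 10 (a ^ 2 * c) * (X 10 (a * d + e) * X 11 (a * c ^ 2)) * X 11 f =
        (X 10 (a ^ 2 * c) * X 10 (a * d + e)) * (X 11 (a * c ^ 2) * X 11 f) by group,
        ← xg_add hC, ← xg_add hC, Z]
      ring_nf

theorem Z_inv (c d e f : F) : (Z c d e f)⁻¹ = Z c d e (f + c * d) := by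
  refine inv_eq_of_mul_eq_one_right ?_
  rw [Z_mul, ← Z_zero]
  congr 1 <;> linear_combination (norm := ring_nf) (0 : F) <;> simp [_root_.CharTwo.two_eq_zero]

theorem seven_six (a b : F) :
    X 7 a * X 6 b = X 6 b * X 7 a * Z (a * b) (a ^ 2 * b) (a ^ 3 * b) 0 := by
  have h := comm76 a b
  rw [← inv_mul_eq_iff_eq_mul] at h
  have h' : X 7 a * X 6 b = X 6 b * X 7 a * (Z (a * b) (a ^ 2 * b) (a ^ 3 * b) (a ^ 3 * b ^ 2))⁻¹ := by
    rw [comm76 a b, mul_inv_cancel_right]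
  rw [h', Z_inv]
  congr 2
  rw [show a * b * (a ^ 2 * b) = a ^ 3 * b ^ 2 by ring, _root_.CharTwo.add_self_eq_zero]

/-- The general element of the unipotent group. -/
def P (b a c d e f : F) : GL chevG2.Idx F := X 6 b * X 7 a * Z c d e f

theorem P_coords {b a c d e f : F} (h : P b a c d e f = 1) :
    b = 0 ∧ a = 0 ∧ c = 0 ∧ d = 0 ∧ e = 0 ∧ f = 0 := by
  let t : ℕ → F := fun r => if r = 6 then b else if r = 7 then a else if r = 8 then c
    else if r = 9 then d else if r = 10 then e else f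
  have e1 : prodX hC [6, 7, 8, 9, 10, 11] t = P b a c d e f := by
    simp [prodX, t, P, Z, mul_assoc]
  have e0 : prodX hC [6, 7, 8, 9, 10, 11] (fun _ => (0 : F)) = 1 := by simp [prodX, xg_zero hC]
  have h1 := prodX_inj hC (L := [6, 7, 8, 9, 10, 11]) (by decide) (fun r hr => ⟨lt_nroots (by
    revert r; decide), roots_ok.2.2.2.2.1 r hr⟩) ((e1.trans h).trans e0.symm)
  exact ⟨h1 6 (by simp), h1 7 (by simp), h1 8 (by simp), h1 9 (by simp), h1 10 (by simp),
    h1 11 (by simp)⟩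

theorem exists_P {u : GL chevG2.Idx F} (hu : u ∈ chevG2.posUnipotent F) :
    ∃ b a c d e f, u = P b a c d e f := by
  obtain ⟨t, rfl⟩ := exists_prodX hC hu
  exact ⟨t 6, t 7, t 8, t 9, t 10, t 11, by rw [roots_ok.2.2.2.1]; simp [prodX, P, Z, mul_assoc]⟩

/-! ### Conjugacy in the group -/

/-- Conjugacy by elements of the group. -/
def Cj (x y : GL chevG2.Idx F) : Prop := ∃ g ∈ chevG2.group F, g * x * g⁻¹ = y

theorem Cj.refl (x : GL chevG2.Idx F) : Cj x x := ⟨1, one_mem _, by group⟩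

theorem Cj.trans {x y z : GL chevG2.Idx F} : Cj x y → Cj y z → Cj x z := by
  rintro ⟨g, hg, rfl⟩ ⟨h, hh, rfl⟩
  exact ⟨h * g, mul_mem hh hg, by group⟩

theorem cj_xg {r : ℕ} (hr : r < 12) (s : F) (x : GL chevG2.Idx F) : Cj x (X r s * x * X r s) :=
  ⟨X r s, xg_mem_group hC (lt_nroots hr) s, by rw [CharTwo.xg_inv_self]⟩

theorem cj_ng {i : ℕ} (hi : i < 2) (r : ℕ) (hr : r < 12) (t : F) :
    Cj (X r t) (X (chevG2.reflectRoot i r) t) := by
  have hi' : i < chevG2.rank := hi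
  refine ⟨ng hC (chevG2.simple i) 1, ng_mem_group hC (hC.simple_lt hi') _, ?_⟩
  rw [ng_conj_x hC hi' (lt_nroots hr), CharTwo.eta_one, one_mul]

theorem cj_torus {r k : ℕ} (hr : r < 12) (hk : k < 2)
    (hrow : ∀ i < 2, chevG2.cartan i r = if i = k then 1 else 0) {t : F} (ht : t ≠ 0) :
    Cj (X r t) (X r 1) := by
  obtain ⟨c, hc⟩ : ∃ c : ℕ → Fˣ, c = fun i => if i = k then (Units.mk0 t ht)⁻¹ else 1 := ⟨_, rfl⟩
  refine ⟨tor chevG2 c, H_le_group hC (tor_mem_H hC c), ?_⟩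
  have hχ : torChar chevG2 c r = (Units.mk0 t ht)⁻¹ := by
    have hk' : k < chevG2.rank := hk
    rw [torChar, Finset.prod_eq_single k (fun i _ hne => by simp [hc, hne])
      (fun h => absurd (Finset.mem_range.2 hk') h), hrow k hk, hc]
    simp
  rw [tor_conj_x hC c r t (lt_nroots hr), hχ]
  simp [ht]

theorem cj_short {r : ℕ} (hr : r ∈ [7, 8, 9]) {t : F} (ht : t ≠ 0) : Cj (X r t) (X 9 (1 : F)) := by
  obtain ⟨-, w8, -, w7, -, -, hrow⟩ := wl_ok
  have h9 : Cj (X 9 t) (X 9 (1 : F)) := cj_torus (k := 0) (by omega) (by omega) (fun i hi => by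
    rw [(hrow i hi).1]; interval_cases i <;> rfl) ht
  have h8 : Cj (X 8 t) (X 9 (1 : F)) := by
    have h := cj_ng (i := 0) (by omega) 8 (by omega) t
    rw [w8] at h
    exact h.trans h9
  simp only [List.mem_cons, List.not_mem_nil, or_false] at hr
  rcases hr with rfl | rfl | rfl
  · have h := cj_ng (i := 1) (by omega) 7 (by omega) t
    rw [w7] at h
    exact h.trans h8
  · exact h8
  · exact h9

theorem cj_long {r : ℕ} (hr : r ∈ [6, 10, 11]) {t : F} (ht : t ≠ 0) : Cj (X r t) (X 11 (1 : F)) := by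
  obtain ⟨w6, -, -, -, w10, -, hrow⟩ := wl_ok
  have h11 : Cj (X 11 t) (X 11 (1 : F)) := cj_torus (k := 1) (by omega) (by omega) (fun i hi => by
    rw [(hrow i hi).2]; interval_cases i <;> rfl) ht
  have h10 : Cj (X 10 t) (X 11 (1 : F)) := by
    have h := cj_ng (i := 1) (by omega) 10 (by omega) t
    rw [w10] at h
    exact h.trans h11
  simp only [List.mem_cons, List.not_mem_nil, or_false] at hr
  rcases hr with rfl | rfl | rfl
  · have h := cj_ng (i := 0) (by omega) 6 (by omega) t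
    rw [w6] at h
    exact h.trans h10
  · exact h10
  · exact h11

/-- Conjugate to one of the two standard involutions. -/
def Std (x : GL chevG2.Idx F) : Prop := Cj x (X 9 (1 : F)) ∨ Cj x (X 11 (1 : F))

theorem Std.of_cj {x y : GL chevG2.Idx F} (h : Cj x y) : Std y → Std x := Or.imp h.trans h.trans

variable [Fintype F]

theorem exists_sqrt (t : F) : ∃ s : F, s ^ 2 = t :=
  (FiniteField.isSquare_of_char_two (ringChar.eq F 2) t).elim fun s h => ⟨s, by rw [sq, h]⟩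

/-- The reduction of an element without first coordinates. -/
theorem std_Z {c d e f : F} (hcd : c * d = 0) (hne : ¬ (c = 0 ∧ d = 0 ∧ e = 0 ∧ f = 0)) :
    Std (Z c d e f) := by
  have h7 : ∀ s, X 7 s * Z c d e f * X 7 s = Z c d (e + s ^ 2 * c + s * d) (f + s * c ^ 2) := fun s => by
    rw [mul_assoc, Z_seven, ← mul_assoc, sq_one, one_mul]
  by_cases hc : c = 0
  · subst hc
    by_cases hd : d = 0
    · subst hd
      by_cases he : e = 0
      · subst he
        have hf : f ≠ 0 := fun h => hne ⟨rfl, rfl, rfl, h⟩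
        have e1 : Z (0 : F) 0 0 f = X 11 f := by simp [Z, xg_zero hC]
        rw [e1]
        exact Or.inr (cj_long (by simp) hf)
      · refine Std.of_cj (cj_xg (r := 6) (by omega) (f / e) _) ?_
        rw [mul_assoc, Z_six, ← mul_assoc, sq_one, one_mul, div_mul_cancel₀ f he,
          _root_.CharTwo.add_self_eq_zero, show Z (0 : F) 0 e 0 = X 10 e by simp [Z, xg_zero hC]]
        exact Or.inr (cj_long (by simp) he)
    · obtain ⟨s, hs⟩ : ∃ s : F, s * d = e := ⟨e / d, div_mul_cancel₀ e hd⟩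
      refine Std.of_cj (cj_xg (r := 7) (by omega) s _) ?_
      rw [h7]
      simp only [hs, mul_zero, add_zero, _root_.CharTwo.add_self_eq_zero, zero_pow two_ne_zero]
      refine Std.of_cj (cj_xg (r := 8) (by omega) (f / d) _) ?_
      have e8 : ∀ t : F, X 8 t = Z t 0 0 0 := fun t => by simp [Z, xg_zero hC]
      rw [e8, Z_mul, Z_mul]
      simp only [add_zero, zero_add, mul_zero, _root_.CharTwo.add_self_eq_zero, div_mul_cancel₀ f hd]
      rw [show Z (0 : F) d 0 0 = X 9 d by simp [Z, xg_zero hC]]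
      exact Or.inl (cj_short (by simp) hd)
  · obtain rfl : d = 0 := (mul_eq_zero.1 hcd).resolve_left hc
    obtain ⟨s, hs⟩ := exists_sqrt (e / c)
    refine Std.of_cj (cj_xg (r := 7) (by omega) s _) ?_
    rw [h7]
    simp only [hs, div_mul_cancel₀ e hc, mul_zero, add_zero, _root_.CharTwo.add_self_eq_zero]
    refine Std.of_cj (cj_xg (r := 9) (by omega) ((f + s * c ^ 2) / c) _) ?_
    have e9 : ∀ t : F, X 9 t = Z 0 t 0 0 := fun t => by simp [Z, xg_zero hC]
    rw [e9, Z_mul, Z_mul]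
    simp only [add_zero, zero_add, zero_mul, _root_.CharTwo.add_self_eq_zero, mul_div_cancel₀ _ hc]
    rw [show Z c (0 : F) 0 0 = X 8 c by simp [Z, xg_zero hC]]
    exact Or.inl (cj_short (by simp) hc)

theorem P_sq (b a c d e f : F) : P b a c d e f * P b a c d e f = P 0 0 (a * b)
    (a ^ 2 * b) (a ^ 3 * b + a ^ 2 * (a * b + c) + a * (a ^ 2 * b + d))
    (f + b * e + c * (a ^ 2 * b) + a * (a * b + c) ^ 2 + f + c * (a ^ 2 * b + d)) := by
  have key : ∀ Z0 Z1 Z2 Z3 Z4 : GL chevG2.Idx F, Z0 * X 6 b = X 6 b * Z1 →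
      X 7 a * X 6 b = X 6 b * X 7 a * Z2 → Z2 * Z1 = Z3 → Z3 * X 7 a = X 7 a * Z4 →
      X 6 b * X 7 a * Z0 * (X 6 b * X 7 a * Z0) = Z4 * Z0 := by
    intro Z0 Z1 Z2 Z3 Z4 h1 h2 h3 h4
    calc X 6 b * X 7 a * Z0 * (X 6 b * X 7 a * Z0)
        = X 6 b * X 7 a * (Z0 * X 6 b) * (X 7 a * Z0) := by group
      _ = X 6 b * (X 7 a * X 6 b) * Z1 * (X 7 a * Z0) := by rw [h1]; group
      _ = (X 6 b * X 6 b) * X 7 a * (Z2 * Z1 * X 7 a) * Z0 := by rw [h2]; group
      _ = (X 7 a * X 7 a) * Z4 * Z0 := by rw [h3, h4, sq_one]; group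
      _ = Z4 * Z0 := by rw [sq_one, one_mul]
  rw [P, P, key _ _ _ _ _ (Z_six c d e f b) (seven_six a b) (Z_mul _ _ _ _ _ _ _ _)
    (Z_seven _ _ _ _ _), Z_mul, xg_zero hC, xg_zero hC, one_mul, one_mul]
  congr 1 <;> linear_combination (norm := ring_nf) (0 : F) <;> simp [_root_.CharTwo.two_eq_zero]

theorem std_of_sq {u : GL chevG2.Idx F} (hu : u ∈ chevG2.posUnipotent F) (h2 : u * u = 1)
    (hne : u ≠ 1) : Std u := by
  obtain ⟨b, a, c, d, e, f, rfl⟩ := exists_P hu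
  rw [P_sq] at h2
  obtain ⟨-, -, hab, -, he, hf⟩ := P_coords h2
  have t2 : (2 : F) = 0 := _root_.CharTwo.two_eq_zero
  rcases mul_eq_zero.1 hab with rfl | rfl
  · -- no first short coordinate
    have hbe : b * e + c * d = 0 := by linear_combination hf - f * t2
    have hP : P b 0 c d e f = X 6 b * Z c d e f := by rw [P, xg_zero hC, mul_one]
    by_cases hb : b = 0
    · subst hb
      have hP' : P (0 : F) 0 c d e f = Z c d e f := by rw [hP, xg_zero hC, one_mul]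
      rw [hP'] at hne ⊢
      refine std_Z (by linear_combination hbe) fun h => hne ?_
      obtain ⟨rfl, rfl, rfl, rfl⟩ := h
      exact Z_zero
    rw [hP]
    refine Std.of_cj (cj_xg (r := 7) (by omega) (c / b) _) ?_
    obtain ⟨s, hs⟩ : ∃ s, s = c / b := ⟨_, rfl⟩
    have hsb : s * b = c := by rw [hs, div_mul_cancel₀ c hb]
    rw [← hs, show X 7 s * (X 6 b * Z c d e f) * X 7 s =
      X 7 s * X 6 b * (Z c d e f * X 7 s) by group, seven_six, Z_seven,
      show X 6 b * X 7 s * Z (s * b) (s ^ 2 * b) (s ^ 3 * b) 0 * (X 7 s * Z c d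
        (e + s ^ 2 * c + s * d) (f + s * c ^ 2)) = X 6 b * X 7 s *
        (Z (s * b) (s ^ 2 * b) (s ^ 3 * b) 0 * X 7 s) * Z c d (e + s ^ 2 * c + s * d) (f + s * c ^ 2)
        by group, Z_seven, ← mul_assoc, mul_assoc (X 6 b) (X 7 s), sq_one, mul_one, mul_assoc, Z_mul]
    obtain ⟨D', hD⟩ : ∃ D', D' = s ^ 2 * b + d := ⟨_, rfl⟩
    have hE : s ^ 3 * b + s ^ 2 * (s * b) + s * (s ^ 2 * b) + (e + s ^ 2 * c + s * d) = 0 := by
      have h3 : b * (s ^ 3 * b + s ^ 2 * (s * b) + s * (s ^ 2 * b) + (e + s ^ 2 * c + s * d)) = 0 := by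
        rw [← hsb] at hbe ⊢
        linear_combination hbe + (2 * s ^ 3 * b ^ 2) * t2
      exact (mul_eq_zero.1 h3).resolve_left hb
    rw [hE, hsb, _root_.CharTwo.add_self_eq_zero, ← hD]
    obtain ⟨f', hf'⟩ : ∃ f', 0 + s * c ^ 2 + (f + s * c ^ 2) + c * (s ^ 2 * b) = f' := ⟨_, rfl⟩
    rw [hf']
    refine Std.of_cj (cj_xg (r := 10) (by omega) (f' / b) _) ?_
    have e10 : ∀ t : F, X 10 t = Z 0 0 t 0 := fun t => by simp [Z, xg_zero hC]
    rw [e10, ← mul_assoc, Z_six, mul_assoc, mul_assoc, Z_mul, Z_mul]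
    simp only [add_zero, zero_add, zero_mul, _root_.CharTwo.add_self_eq_zero, mul_div_cancel₀ _ hb]
    by_cases hd : D' = 0
    · rw [hd, Z_zero, mul_one]
      exact Or.inr (cj_long (by simp) hb)
    · refine Std.of_cj ⟨ng hC (chevG2.simple 0) 1, ng_mem_group hC (hC.simple_lt (by decide)) _, ?_⟩
        (std_Z (c := D') (d := 0) (e := b) (f := 0) (mul_zero _) fun h => hd h.1)
      obtain ⟨w6, -, w9, -⟩ := wl_ok
      rw [show Z (0 : F) D' 0 0 = X 9 D' by simp [Z, xg_zero hC], ← conj_mul,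
        ng_conj_x hC (by decide) (lt_nroots (by decide : 6 < 12)),
        ng_conj_x hC (by decide) (lt_nroots (by decide : 9 < 12)), CharTwo.eta_one, CharTwo.eta_one,
        one_mul, one_mul, w6, w9, show Z D' (0 : F) b 0 = X 8 D' * X 10 b by simp [Z, xg_zero hC],
        ((cm (r := 8) (s := 10) (by simp) D' b).eq)]
  · -- no first long coordinate
    by_cases ha : a = 0
    · subst ha
      have hP' : P (0 : F) 0 c d e f = Z c d e f := by simp [P, xg_zero hC]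
      rw [hP'] at hne ⊢
      refine std_Z (by linear_combination hf - f * t2) fun h => hne ?_
      obtain ⟨rfl, rfl, rfl, rfl⟩ := h
      exact Z_zero
    have hd : d = a * c := by
      have h3 : a * (a * c + d) = 0 := by linear_combination he
      linear_combination (mul_eq_zero.1 h3).resolve_left ha - (a * c) * t2
    rw [show P (0 : F) a c d e f = X 7 a * Z c d e f by rw [P, xg_zero hC, one_mul], hd]
    obtain ⟨s, hs⟩ : ∃ s, s = c / a := ⟨_, rfl⟩
    have hsa : a * s = c := by rw [hs, mul_div_cancel₀ c ha]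
    refine Std.of_cj (cj_xg (r := 6) (by omega) s _) ?_
    rw [show X 6 s * (X 7 a * Z c (a * c) e f) * X 6 s = X 6 s * X 7 a * (Z c (a * c) e f * X 6 s)
      by group, Z_six, show X 6 s * X 7 a * (X 6 s * Z c (a * c) e (f + s * e)) =
      X 6 s * (X 7 a * X 6 s) * Z c (a * c) e (f + s * e) by group, seven_six,
      ← mul_assoc, ← mul_assoc, sq_one, one_mul, mul_assoc, Z_mul, hsa,
      show a ^ 2 * s = a * c by rw [← hsa]; ring, _root_.CharTwo.add_self_eq_zero,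
      _root_.CharTwo.add_self_eq_zero]
    obtain ⟨E', hE'⟩ : ∃ E', E' = a ^ 3 * s + e := ⟨_, rfl⟩
    obtain ⟨f', hf'⟩ : ∃ f', f' = 0 + (f + s * e) + c * (a * c) := ⟨_, rfl⟩
    rw [← hE', ← hf']
    obtain ⟨σ, hσ⟩ := exists_sqrt (f' / a)
    have hσ' : a * σ ^ 2 = f' := by rw [hσ, mul_div_cancel₀ _ ha]
    obtain ⟨τ, hτ⟩ : ∃ τ, τ = a * σ + E' / a := ⟨_, rfl⟩
    refine Std.of_cj ⟨Z σ τ 0 0, mul_mem (xg_mem_group hC (lt_nroots (by decide)) _)
      (mul_mem (xg_mem_group hC (lt_nroots (by decide)) _) (mul_mem (xg_mem_group hC (lt_nroots (by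
        decide)) _) (xg_mem_group hC (lt_nroots (by decide)) _))), ?_⟩ (Or.inl (cj_short (r := 7) (by simp) ha))
    rw [Z_inv, show Z σ τ 0 0 * (X 7 a * Z 0 0 E' f') * Z σ τ 0 (0 + σ * τ) =
      Z σ τ 0 0 * X 7 a * (Z 0 0 E' f' * Z σ τ 0 (0 + σ * τ)) by group, Z_seven, mul_assoc, Z_mul,
      Z_mul]
    have e0 : 0 + a ^ 2 * σ + a * τ + (E' + 0) = 0 := by
      rw [hτ, mul_add, mul_div_cancel₀ _ ha]; linear_combination (a ^ 2 * σ + E') * t2
    rw [e0, zero_add σ, zero_add τ, _root_.CharTwo.add_self_eq_zero, _root_.CharTwo.add_self_eq_zero,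
      show 0 + a * σ ^ 2 + (f' + (0 + σ * τ) + σ * 0) + σ * τ = 0 by
        rw [hσ']; linear_combination (f' + σ * τ) * t2, Z_zero, mul_one]

/-- Every involution is conjugate to one of the two root elements. -/
theorem involution_std {g : GL chevG2.Idx F} (hg : g ∈ chevG2.group F) (h2 : g * g = 1) (hne : g ≠ 1) :
    Std g := by
  classical
  haveI : Fact (Nat.Prime 2) := ⟨Nat.prime_two⟩
  haveI : Finite (chevG2.group F) := inferInstance
  obtain ⟨P₀, hP⟩ := Cfsg.Agent.SimpleFacts.ChevalleySylow.exists_sylow (F := F) 2 chevG2 (by simp)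
  have hp : IsPGroup 2 (Subgroup.zpowers (⟨g, hg⟩ : chevG2.group F)) := by
    refine IsPGroup.of_card (n := 1) ?_
    rw [Nat.card_zpowers, pow_one]
    refine orderOf_eq_prime ?_ fun h => hne (congrArg Subtype.val h)
    exact Subtype.ext (by rw [sq]; exact h2)
  obtain ⟨Q, hQ⟩ := hp.exists_le_sylow
  obtain ⟨x, rfl⟩ := MulAction.exists_smul_eq (chevG2.group F) P₀ Q
  have h := hQ (Subgroup.mem_zpowers (⟨g, hg⟩ : chevG2.group F))
  rw [Sylow.coe_subgroup_smul, hP] at h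
  obtain ⟨y, hy, e⟩ := h
  have hyU : (y : GL chevG2.Idx F) ∈ chevG2.posUnipotent F := Subgroup.mem_subgroupOf.1 hy
  have e' : (x : GL chevG2.Idx F) * y * (x : GL chevG2.Idx F)⁻¹ = g := congrArg Subtype.val e
  refine Std.of_cj ⟨(x : GL chevG2.Idx F)⁻¹, inv_mem x.2, ?_⟩ (std_of_sq hyU ?_ ?_)
  · rw [← e']; group
  · have : (x : GL chevG2.Idx F) * ((y : GL chevG2.Idx F) * y) * (x : GL chevG2.Idx F)⁻¹ = 1 := by
      rw [← h2, ← e']; group
    rwa [mul_inv_eq_one, mul_eq_left] at this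
  · intro hy1
    rw [hy1, mul_one, mul_inv_cancel] at e'
    exact hne e'.symm

theorem conj_nine_gen : ∀ x ∈ {g : GL chevG2.Idx F | ∃ (r : ℕ) (t : F), r < chevG2.nroots ∧ 0 < Data.G2.tab.phi r ∧
    g = xg hC r t}, (∀ s e f : F, ∃ e' f', x * Z 0 s e f * x⁻¹ = Z 0 s e' f') ∧
    ∀ t : F, x * X 11 t * x⁻¹ = X 11 t := by
  rintro x ⟨r, t, hr, hp, rfl⟩
  have hr' : r ∈ [6, 7, 8, 9, 10, 11] := by
    rw [← roots_ok.2.2.2.1]; exact (mem_posRoots hC).2 ⟨hr, hp⟩
  simp only [List.mem_cons, List.not_mem_nil, or_false] at hr'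
  have e8 : ∀ t : F, X 8 t = Z t 0 0 0 := fun t => by simp [Z, xg_zero hC]
  have e9 : ∀ t : F, X 9 t = Z 0 t 0 0 := fun t => by simp [Z, xg_zero hC]
  have e10 : ∀ t : F, X 10 t = Z 0 0 t 0 := fun t => by simp [Z, xg_zero hC]
  have e11 : ∀ t : F, X 11 t = Z 0 0 0 t := fun t => by simp [Z, xg_zero hC]
  rw [CharTwo.xg_inv_self]
  have hself : ∀ a b : F, a + b + a = b := fun a b => by
    rw [add_comm a b, add_assoc, _root_.CharTwo.add_self_eq_zero, add_zero]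
  rcases hr' with rfl | rfl | rfl | rfl | rfl | rfl
  · refine ⟨fun s e f => ⟨e, f + t * e, ?_⟩, fun u => ?_⟩
    · rw [mul_assoc, Z_six, ← mul_assoc, sq_one, one_mul]
    · rw [mul_assoc, e11 u, Z_six, ← mul_assoc, sq_one, one_mul, mul_zero, add_zero]
  · refine ⟨fun s e f => ⟨e + t ^ 2 * 0 + t * s, f + t * 0 ^ 2, ?_⟩, fun u => ?_⟩
    · rw [mul_assoc, Z_seven, ← mul_assoc, sq_one, one_mul]
    · rw [mul_assoc, e11 u, Z_seven, ← mul_assoc, sq_one, one_mul]
      simp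
  all_goals
    refine ⟨fun s e f => ?_, fun u => ?_⟩
    · simp only [e8, e9, e10, e11, Z_mul, add_zero, zero_add, mul_zero, zero_mul,
        _root_.CharTwo.add_self_eq_zero, hself]
      exact ⟨_, _, rfl⟩
    · simp only [e8, e9, e10, e11, Z_mul, add_zero, zero_add, mul_zero, zero_mul,
        _root_.CharTwo.add_self_eq_zero, hself]

theorem U_conj_nine {u : GL chevG2.Idx F} (hu : u ∈ chevG2.posUnipotent F) :
    (∀ s e f : F, ∃ e' f', u * Z 0 s e f * u⁻¹ = Z 0 s e' f') ∧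
      ∀ t : F, u * X 11 t * u⁻¹ = X 11 t := by
  rw [U_eq_closure hC] at hu
  induction hu using Subgroup.closure_induction'' with
  | mem x hx => exact conj_nine_gen x hx
  | inv_mem x hx =>
    obtain ⟨r, t, hr, hp, rfl⟩ := hx
    rw [CharTwo.xg_inv_self]
    exact conj_nine_gen _ ⟨r, t, hr, hp, rfl⟩
  | one => exact ⟨fun s e f => ⟨e, f, by group⟩, fun t => by group⟩
  | mul x y _ _ hx hy =>
    refine ⟨fun s e f => ?_, fun t => ?_⟩
    · obtain ⟨e₁, f₁, h₁⟩ := hy.1 s e f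
      obtain ⟨e₂, f₂, h₂⟩ := hx.1 s e₁ f₁
      exact ⟨e₂, f₂, by rw [← h₂, ← h₁]; group⟩
    · rw [show x * y * X 11 t * (x * y)⁻¹ = x * (y * X 11 t * y⁻¹) * x⁻¹ by group, hy.2, hx.2]

/-- The two root elements are not conjugate. -/
theorem not_cj : ¬ Cj (X 9 (1 : F)) (X 11 (1 : F)) := by
  rintro ⟨g, hg, e⟩
  obtain ⟨w, hw⟩ := Cfsg.Agent.BN.Basic.bruhat (P := bn (F := F) hC) ⟨g, hg⟩
  obtain ⟨n, hn, rfl⟩ := Cfsg.Agent.BN.Basic.exists_mkW w
  rw [Cfsg.Agent.BN.Basic.cell_mkW] at hw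
  obtain ⟨b₁, hb₁, b₂, hb₂, e'⟩ := Cfsg.Agent.BN.Basic.mem_dc.1 hw
  obtain ⟨u₁, hu₁, h₁, hh₁, eb₁⟩ := (mem_B_iff hC).1 (Subgroup.mem_subgroupOf.1 hb₁)
  obtain ⟨u₂, hu₂, h₂, hh₂, eb₂⟩ := (mem_B_iff hC).1 (Subgroup.mem_subgroupOf.1 hb₂)
  obtain ⟨c₁, rfl⟩ := (mem_H_iff hC).1 hh₁
  obtain ⟨c₂, rfl⟩ := (mem_H_iff hC).1 hh₂
  obtain ⟨c, L, hL, en⟩ := (mem_N_iff hC).1 (Subgroup.mem_subgroupOf.1 hn)
  have eg : g = u₁ * tor chevG2 c₁ * (tor chevG2 c * nL hC F L) * (u₂ * tor chevG2 c₂) := by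
    rw [← eb₁, ← eb₂, ← en]
    exact congrArg Subtype.val e'
  obtain ⟨m, hm⟩ : ∃ m, m = nL hC F L := ⟨_, rfl⟩
  obtain ⟨χ, hχ⟩ : ∃ χ : F, χ = (torChar chevG2 c₂ 9 : F) := ⟨_, rfl⟩
  obtain ⟨d, hd⟩ : ∃ d : ℕ → Fˣ, d = c₁ * c := ⟨_, rfl⟩
  have e1 : m * (u₂ * X 9 χ * u₂⁻¹) * m⁻¹ = (tor chevG2 d)⁻¹ * X 11 1 * tor chevG2 d := by
    have h9 : X 9 χ = tor chevG2 c₂ * X 9 1 * (tor chevG2 c₂)⁻¹ := by
      rw [tor_conj_x hC c₂ 9 1 (lt_nroots (by decide)), mul_one, hχ]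
    have h11 : u₁⁻¹ * X 11 1 * u₁ = X 11 (1 : F) := by
      have h := (U_conj_nine (inv_mem hu₁)).2 1
      rwa [inv_inv] at h
    rw [h9, ← h11, ← e, eg, hd, ← tor_mul, hm]
    group
  rw [tor_inv, ← inv_inv (tor chevG2 d), tor_inv,
    tor_conj_x hC d⁻¹ 11 1 (lt_nroots (by decide)), mul_one] at e1
  obtain ⟨t', ht'⟩ : ∃ t' : F, t' = (torChar chevG2 d⁻¹ 11 : F) := ⟨_, rfl⟩
  rw [← ht'] at e1
  obtain ⟨e₂', f₂', hconj⟩ := (U_conj_nine hu₂).1 χ 0 0
  rw [show Z (0 : F) χ 0 0 = X 9 χ by simp [Z, xg_zero hC]] at hconj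
  rw [hconj] at e1
  obtain ⟨r, hrdef⟩ : ∃ r, r = wL chevG2 L.reverse 11 := ⟨_, rfl⟩
  have hrev : ∀ i ∈ L.reverse, i < chevG2.rank := fun i hi => hL i (List.mem_reverse.1 hi)
  have hrlt : r < chevG2.nroots := hrdef ▸ wL_lt hC hrev (lt_nroots (by decide))
  obtain ⟨η, hη, hηx⟩ := nL_conj_x (F := F) hC hL hrlt
  have hw : wL chevG2 L r = 11 := by
    have := wL_reverse hC hrev (lt_nroots (by decide : 11 < 12))
    rw [List.reverse_reverse] at this
    rw [hrdef]; exact this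
  have e2 : Z 0 χ e₂' f₂' = X r (η⁻¹ * t') := by
    have h := hηx (η⁻¹ * t')
    rw [← hm, hw, ← mul_assoc η, mul_inv_cancel₀ hη, one_mul, ← e1] at h
    exact (mul_left_cancel (mul_right_cancel h)).symm
  have hlong : ∀ M : List ℕ, (∀ i ∈ M, i < chevG2.rank) → wL chevG2 M 11 ∈ [0, 1, 5, 6, 10, 11] := by
    intro M
    induction M with
    | nil => intro _; simp [wL]
    | cons i M ih =>
      intro h
      exact wl_ok.2.2.2.2.2.1 i (h i List.mem_cons_self) _ (ih fun j hj => h j (List.mem_cons_of_mem i hj))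
  have hχ0 : χ ≠ 0 := hχ ▸ Units.ne_zero _
  have hZU : Z 0 χ e₂' f₂' ∈ chevG2.posUnipotent F := by
    have hmem : ∀ k ∈ [6, 7, 8, 9, 10, 11], ∀ t : F, X k t ∈ chevG2.posUnipotent F := fun k hk t =>
      xg_mem_U hC (lt_nroots (by revert k; decide)) (roots_ok.2.2.2.2.1 k hk) t
    exact mul_mem (hmem 8 (by simp) _) (mul_mem (hmem 9 (by simp) _)
      (mul_mem (hmem 10 (by simp) _) (hmem 11 (by simp) _)))
  have hr := hlong _ hrev
  rw [← hrdef] at hr
  have hpos : 0 < Data.G2.tab.phi r := by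
    by_contra hneg
    have hphi := hC.phi_ne_zero hrlt
    have hV := xg_mem_V (F := F) hC hrlt (by omega) (η⁻¹ * t')
    rw [← e2] at hV
    have h := U_inf_V hC hZU hV
    have h0 : P (0 : F) 0 0 χ e₂' f₂' = 1 := by rw [P, xg_zero hC, xg_zero hC, one_mul, one_mul]; exact h
    exact hχ0 (P_coords h0).2.2.2.1
  have hr' : r ∈ [6, 10, 11] := by
    have h2 : ∀ k ∈ [0, 1, 5, 6, 10, 11], 0 < Data.G2.tab.phi k → k ∈ [6, 10, 11] := by decide +kernel
    exact h2 r hr hpos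
  let t₁ : ℕ → F := fun k => if k = 9 then χ else if k = 10 then e₂' else if k = 11 then f₂' else 0
  let t₂ : ℕ → F := fun k => if k = r then η⁻¹ * t' else 0
  have ep : prodX hC [6, 7, 8, 9, 10, 11] t₁ = Z 0 χ e₂' f₂' := by
    simp [prodX, t₁, Z, xg_zero hC, mul_assoc]
  have eq' : prodX hC [6, 7, 8, 9, 10, 11] t₂ = X r (η⁻¹ * t') := by
    simp only [List.mem_cons, List.not_mem_nil, or_false] at hr'
    rcases hr' with h | h | h <;> subst h <;> simp [prodX, t₂, xg_zero hC]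
  have h9 := prodX_inj hC (L := [6, 7, 8, 9, 10, 11]) (by decide) (fun k hk => ⟨lt_nroots (by
    revert k; decide), roots_ok.2.2.2.2.1 k hk⟩) ((ep.trans e2).trans eq'.symm) 9 (by simp)
  have h9r : 9 ≠ r := by
    simp only [List.mem_cons, List.not_mem_nil, or_false] at hr'
    omega
  simp [t₁, t₂, h9r] at h9
  exact hχ0 h9

end Cfsg.Agent.Exceptional.G2TwoInvol
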