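import Cfsg.Agent.Lib.Chevalley.Twist.CountF4
import Cfsg.Agent.Lib.Chevalley.Graded

/-!
Elements of two-power order of the twisted groups of type F4 have order at most thirty-two: the height
of roots takes twenty-three values on the adjoint module.
-/

set_option autoImplicit false

open scoped Matrix

namespace Cfsg.Agent.Exceptional.LargeRee

open Cfsg.Lie Cfsg.Agent.Chevalley Cfsg.Agent.Chevalley.Table Cfsg.Agent.Chevalley.Cert
  Cfsg.Agent.Chevalley.Group Cfsg.Agent.Chevalley.Weight Cfsg.Agent.Chevalley.Borel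
  Cfsg.Agent.Chevalley.Graded Cfsg.Agent.Chevalley.Twist

/-- The coefficients of the height. -/
def hgtC : ℕ → ℤ := fun j => [8, 15, 21, 11].getD j 0

theorem hgt_ok : ∀ r < chevF4.nroots, -11 ≤ lin chevF4 hgtC r ∧ lin chevF4 hgtC r ≤ 11 ∧
    (0 < Data.F4.tab.phi r → 1 ≤ lin chevF4 hgtC r) := by decide +kernel

variable {K : Type*} [Field K] [CharP K 2]

theorem pow_thirtytwo {u : GL chevF4.Idx K} (hu : u ∈ chevF4.posUnipotent K) : u ^ 32 = 1 := by
  have hUT : u ∈ UT (deg chevF4 hgtC) 1 zero_le_one := by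
    rw [U_eq_closure Twist.F4.hC] at hu
    refine (Subgroup.closure_le _).2 ?_ hu
    rintro g ⟨r, t, hr, hp, rfl⟩
    exact xg_mem_UT_deg Twist.F4.hC hgtC hr ((hgt_ok r hr).2.2 hp) t
  have hb : ∀ a : chevF4.Idx, -11 ≤ deg chevF4 hgtC a ∧ deg chevF4 hgtC a ≤ 11 := by
    rintro (i | s)
    · simp [deg]
    · exact ⟨(hgt_ok s s.2).1, (hgt_ok s s.2).2.1⟩
  have h0 := pow_eq_zero_of_fil _ hUT.1 (fun a => (deg chevF4 hgtC a + 11).toNat) 23
    (fun a b h => by have := hb a; have := hb b; omega) (fun a => by have := hb a; omega)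
  have h32 : ((u : Matrix chevF4.Idx chevF4.Idx K) - 1) ^ 32 = 0 := by
    rw [show 32 = 23 + 9 from rfl, pow_add, h0, zero_mul]
  have key : ∀ k : ℕ, ((u : Matrix chevF4.Idx chevF4.Idx K) - 1) ^ 2 ^ k =
      (u : Matrix chevF4.Idx chevF4.Idx K) ^ 2 ^ k - 1 := by
    intro k
    induction k with
    | zero => simp
    | succ k ih =>
      rw [pow_succ, pow_mul, ih, pow_mul, sq, sq]
      generalize (u : Matrix chevF4.Idx chevF4.Idx K) ^ 2 ^ k = A
      have h2 : A + A = 0 := by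
        rw [← two_smul K, show (2 : K) = 0 from CharP.ofNat_eq_zero K 2, zero_smul]
      have h3 : (A - 1) * (A - 1) = A * A - (A + A) + 1 := by noncomm_ring
      have h4 : (1 : Matrix chevF4.Idx chevF4.Idx K) + 1 = 0 := by
        rw [← two_smul K, show (2 : K) = 0 from CharP.ofNat_eq_zero K 2, zero_smul]
      rw [h3, h2, sub_zero, sub_eq_add_neg, ← eq_neg_of_add_eq_zero_left h4]
  have h5 := key 5
  rw [show 2 ^ 5 = 32 from rfl, h32, eq_comm, sub_eq_zero] at h5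
  refine Units.ext ?_
  rw [Units.val_pow_eq_pow_val, Units.val_one, h5]

omit [CharP K 2] in
/-- A two-element of a twisted group has order at most thirty-two. -/
theorem orderOf_le [Fintype K] {m : ℕ} (hK : Fintype.card K = 2 ^ (2 * m + 1))
    (x : ↥(twistedF4 K (2 ^ m))) (hx : ∃ j : ℕ, orderOf x = 2 ^ j) : orderOf x ≤ 32 := by
  haveI : CharP K 2 := Twist.F4.charTwo hK
  haveI : Fact (Nat.Prime 2) := ⟨Nat.prime_two⟩
  let X : Twist.F4.Setup (K := K) (m := m) hK := (Twist.F4.exists_setup hK).some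
  obtain ⟨P, hPdef⟩ : ∃ P, P = (chevF4.posUnipotent K ⊓ twistedF4 K (2 ^ m)).subgroupOf
    (twistedF4 K (2 ^ m)) := ⟨_, rfl⟩
  have hcard : Nat.card P = (2 ^ (2 * m + 1)) ^ 12 := by
    rw [hPdef, Nat.card_congr (Subgroup.subgroupOfEquivOfLe inf_le_right).toEquiv, Twist.F4.card_U X]
  obtain ⟨q, hq⟩ : ∃ q, q = 2 ^ (2 * m + 1) := ⟨_, rfl⟩
  have hidx : ¬ 2 ∣ P.index := by
    have h := P.card_mul_index
    rw [hcard, Twist.F4.card_group X, ← hq] at h
    have hq0 : 0 < q ^ 12 := pow_pos (hq ▸ Nat.two_pow_pos _) 12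
    rw [mul_assoc (q ^ 12), mul_assoc (q ^ 12), mul_assoc (q ^ 12)] at h
    rw [Nat.eq_of_mul_eq_mul_left hq0 h]
    have he : 2 ∣ q := hq ▸ dvd_pow_self 2 (by omega)
    have hq1 : 2 ≤ q := hq ▸ Nat.le_self_pow (by omega) 2
    have h1 : ¬ 2 ∣ q - 1 := by omega
    have h3 : ¬ 2 ∣ q ^ 3 + 1 := by
      have : 2 ∣ q ^ 3 := he.trans (dvd_pow_self q three_ne_zero); omega
    have h4 : ¬ 2 ∣ q ^ 4 - 1 := by
      have : 2 ∣ q ^ 4 := he.trans (dvd_pow_self q (by norm_num))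
      have := Nat.one_le_pow 4 q (by omega); omega
    have h6 : ¬ 2 ∣ q ^ 6 + 1 := by
      have : 2 ∣ q ^ 6 := he.trans (dvd_pow_self q (by norm_num)); omega
    simp only [Nat.prime_two.dvd_mul]
    tauto
  obtain ⟨j, hj⟩ := hx
  obtain ⟨Q0, hQ0⟩ : ∃ Q0 : Sylow 2 ↥(twistedF4 K (2 ^ m)), (Q0 : Subgroup _) = P :=
    ⟨(IsPGroup.of_card (n := (2 * m + 1) * 12) (by rw [hcard, ← pow_mul])).toSylow hidx, rfl⟩
  obtain ⟨Q, hQ⟩ := IsPGroup.exists_le_sylow (IsPGroup.of_card (n := j)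
    (by rw [Nat.card_zpowers, hj]) : IsPGroup 2 ↥(Subgroup.zpowers x))
  obtain ⟨g, hg⟩ := MulAction.exists_smul_eq ↥(twistedF4 K (2 ^ m)) Q Q0
  have hm : g * x * g⁻¹ ∈ P := by
    rw [← hQ0, ← hg, Sylow.smul_def, Sylow.pointwise_smul_def]
    exact Subgroup.smul_mem_pointwise_smul x (MulAut.conj g) _ (hQ (Subgroup.mem_zpowers x))
  rw [hPdef, Subgroup.mem_subgroupOf] at hm
  have h32 : (g * x * g⁻¹) ^ 32 = 1 := Subtype.ext (by
    rw [SubgroupClass.coe_pow, pow_thirtytwo hm.1]; rfl)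
  have hx32 : x ^ 32 = 1 := by
    rw [conj_pow] at h32
    exact conj_eq_one_iff.1 h32
  exact Nat.le_of_dvd (by norm_num) (orderOf_dvd_of_pow_eq_one hx32)

end Cfsg.Agent.Exceptional.LargeRee
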