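import Cfsg.Agent.Lib.Chevalley.Columns
import Cfsg.Agent.Lib.Chevalley.Twist.RankOne

/-!
Words in root elements with parameter one acting on vectors in characteristic two, decided by
reducing the coefficients at every step.
-/

set_option autoImplicit false

open scoped Matrix

namespace Cfsg.Agent.Exceptional.Mod2

open Cfsg.Lie Cfsg.Agent.Chevalley Cfsg.Agent.Chevalley.Eval Cfsg.Agent.Chevalley.Table
  Cfsg.Agent.Chevalley.Cert Cfsg.Agent.Chevalley.Columns

/-- Reduce the coefficients. -/
noncomputable def red (L : List Term) : List Term :=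
  norm (List.rec [] (fun T _ ih => ⟨T.idx, T.a, T.b, Int.emod T.c 2⟩ :: ih) (norm L) : List Term)

/-- The letters of a list of roots. -/
def letters (w : List ℕ) : List Letter := w.map fun r => ⟨r, 0, 0, 1⟩

/-- The image under a word of roots, reduced at every letter. -/
noncomputable def actW (col : Col) (w : List ℕ) (L : List Term) : List Term :=
  List.rec L (fun r _ ih => red (act col ⟨r, 0, 0, 1⟩ ih)) w

/-- The vector with ones at a list of coordinates. -/
def ones (l : List ℕ) : List Term := l.map fun i => ⟨i, 0, 0, 1⟩

/-- A word sends the first vector to the second. -/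
noncomputable def mapsTo (col : Col) (w : List ℕ) (l l' : List ℕ) : Bool :=
  (red (negTerms (ones l') (actW col w (ones l)))).isEmpty

/-- Two words agree. -/
noncomputable def sameW (col : Col) (dim : ℕ) (w w' : List ℕ) : Bool :=
  allR dim fun j => (red (negTerms (actW col w' (unit j)) (actW col w (unit j)))).isEmpty

variable {D : ChevalleyDatum} {F : Type*} [Field F] [CharP F 2]

theorem cast_emod (z : ℤ) : ((Int.emod z 2 : ℤ) : F) = (z : F) := by
  conv_rhs => rw [← Int.emod_add_mul_ediv z 2]
  rw [Int.cast_add, Int.cast_mul, Int.cast_ofNat, show (2 : F) = 0 from CharP.ofNat_eq_zero F 2,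
    zero_mul, add_zero]
  rfl

theorem vec_red (L : List Term) : vec D (1 : F) 1 (red L) = vec D 1 1 L := by
  rw [red, vec_norm]
  conv_rhs => rw [← vec_norm]
  induction norm L with
  | nil => rfl
  | cons T L ih =>
    show vec D (1 : F) 1 (⟨T.idx, T.a, T.b, Int.emod T.c 2⟩ :: _) = _
    rw [vec_cons, ih, vec_cons]
    simp only [mval, cast_emod]

/-- The vector of a list of coordinates. -/
abbrev onesV (D : ChevalleyDatum) (F : Type*) [Field F] (l : List ℕ) : D.Idx → F :=
  (l.map fun i => basis D F i).sum

theorem allR_of {n : ℕ} {p : ℕ → Bool} (h : ∀ i < n, p i = true) : allR n p = true := by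
  induction n with
  | zero => rfl
  | succ n ih =>
    show (bif p n then allR n p else false) = true
    rw [h n (by omega), cond_true]
    exact ih fun i hi => h i (by omega)

theorem onesV_apply (l : List ℕ) (i : D.Idx) : onesV D F l i = (l.count (code D i) : F) := by
  induction l with
  | nil => simp [onesV]
  | cons a l ih =>
    simp only [onesV, List.map_cons, List.sum_cons, Pi.add_apply, List.count_cons] at ih ⊢
    rw [ih]
    by_cases h : code D i = a
    · simp [basis, h, add_comm]
    · simp [basis, h, Ne.symm h]

/-- The coordinate lists differ at some coordinate. -/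
noncomputable def differ (dim : ℕ) (l l' : List ℕ) : Bool :=
  !(allR dim fun k => Nat.beq (l.count k % 2) (l'.count k % 2))

theorem onesV_ne {l l' : List ℕ} (h : differ (D.rank + D.nroots) l l' = true) :
    onesV D F l ≠ onesV D F l' := by
  intro e
  rw [differ, Bool.not_eq_true'] at h
  refine Bool.false_ne_true (h.symm.trans (allR_of fun k hk => ?_))
  obtain ⟨i, rfl⟩ := exists_code (D := D) hk
  have h1 := congrFun e i
  rw [onesV_apply, onesV_apply, CharP.natCast_eq_natCast F 2] at h1
  rw [show l.count (code D i) % 2 = l'.count (code D i) % 2 from h1]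
  exact Nat.beq_refl _

theorem vec_ones (l : List ℕ) : vec D (1 : F) 1 (ones l) = onesV D F l := by
  simp [vec, ones, mval, List.map_map, Function.comp_def]

variable {T : Tab} (hC : Certified D T)

/-- The element of a word of roots. -/
def wg (F : Type*) [Field F] (hC : Certified D T) (w : List ℕ) : GL D.Idx F :=
  Twist.wordGL hC (w.map fun r => (r, (1 : F)))

theorem wg_nil : wg F hC [] = 1 := rfl

theorem wg_append (w w' : List ℕ) : wg F hC (w ++ w') = wg F hC w * wg F hC w' := by
  simp [wg, Twist.wordGL]

theorem wg_cons (r : ℕ) (w : List ℕ) : wg F hC (r :: w) = Group.xg hC r 1 * wg F hC w := rfl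

theorem vec_actW (w : List ℕ) (L : List Term) :
    vec D (1 : F) 1 (actW T.col w L) =
      ((wg F hC w : GL D.Idx F) : Matrix D.Idx D.Idx F) *ᵥ vec D 1 1 L := by
  rw [wg, Twist.coe_wordGL]
  induction w with
  | nil => simp [actW, ChevalleyDatum.wordMat]
  | cons r w ih =>
    show vec D (1 : F) 1 (red (act T.col ⟨r, 0, 0, 1⟩ (actW T.col w L))) = _
    rw [vec_red, vec_act (1 : F) 1 (colValid hC), ih, Matrix.mulVec_mulVec]
    simp [ChevalleyDatum.wordMat, lval]

theorem mapsTo_spec {w l l' : List ℕ} (h : mapsTo T.col w l l' = true) :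
    ((wg F hC w : GL D.Idx F) : Matrix D.Idx D.Idx F) *ᵥ onesV D F l = onesV D F l' := by
  have h1 := vec_red (D := D) (F := F) (negTerms (ones l') (actW T.col w (ones l)))
  rw [List.isEmpty_iff.1 h, vec_nil, vec_negTerms, vec_actW hC, vec_ones, vec_ones, eq_comm,
    sub_eq_zero] at h1
  exact h1

theorem sameW_spec {w w' : List ℕ} (hs : sameW T.col (D.rank + D.nroots) w w' = true) :
    wg F hC w = wg F hC w' := by
  refine Units.ext (matrix_ext D fun j hj => ?_)
  have h1 := vec_red (D := D) (F := F) (negTerms (actW T.col w' (unit j)) (actW T.col w (unit j)))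
  rw [List.isEmpty_iff.1 (of_allR hs j hj), vec_nil, vec_negTerms, vec_actW hC, vec_actW hC,
    vec_unit, eq_comm, sub_eq_zero] at h1
  exact h1

end Cfsg.Agent.Exceptional.Mod2
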