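import Cfsg.Agent.Lib.Ree.Borel
import Cfsg.Agent.Lib.Chevalley.Exceptional.Frob504

/-!
The derived group of the smallest Ree group is simple of order 504.
-/

set_option autoImplicit false
set_option linter.unusedSectionVars false
set_option linter.style.haveILetI false

namespace Cfsg.Agent.Exceptional.ReeThree

open Cfsg.Lie Cfsg.Agent.Chevalley.Twist.G2 Cfsg.Agent.Ree Subgroup

variable {K : Type*} [Field K] [Fintype K] [CharP K 3]
  {hK : Fintype.card K = 3 ^ (2 * 0 + 1)} (X : Setup (K := K) (m := 0) hK)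

local notation "GG" => twistedG2 K (3 ^ 0)

include X

theorem card_three : Fintype.card K = 3 := hK

theorem cube_eq (t : K) : TT 0 t = t := by
  have h := FiniteField.pow_card t
  rw [card_three X] at h
  simpa [TT] using h

theorem units_cases (x : Kˣ) : x = 1 ∨ x = -1 := by
  have h := FiniteField.pow_card_sub_one_eq_one (x : K) x.ne_zero
  rw [card_three X] at h
  rcases sq_eq_one_iff.1 h with e | e
  · exact Or.inl (Units.ext e)
  · exact Or.inr (Units.ext (by rw [e]; simp))

theorem ti {g : GG} {p : K × K × K} (hp : uu X p ≠ 1) (h : g⁻¹ * uu X p * g ∈ bor X) : g ∈ bor X := by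
  have hp0 : p ≠ 0 := by rintro rfl; exact hp (uu_zero X)
  have hfix : uu X p • (g : GG ⧸ bor X) = (g : GG ⧸ bor X) := by
    rw [MulAction.Quotient.smul_coe, smul_eq_mul, eq_comm, QuotientGroup.eq]
    simpa [mul_assoc] using h
  have h1 := uu_fix_only_base X hp0 hfix
  simpa using QuotientGroup.eq.1 h1.symm

/-- The functional on the unipotent subgroup. -/
theorem exists_phi : ∃ φ : UB X →* Multiplicative K,
    ∀ t u v : K, φ ⟨uu X (t, u, v), uu_mem X _⟩ = Multiplicative.ofAdd (u - t ^ 2) := by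
  classical
  have hex : ∀ g : UB X, ∃ p : K × K × K, (g : GG) = uu X p := fun g => by
    obtain ⟨t, u, v, e⟩ := mem_UB X g.2
    exact ⟨(t, u, v), e⟩
  choose f hf using hex
  have hfe : ∀ (g : UB X) (t u v : K), (g : GG) = uu X (t, u, v) → f g = (t, u, v) := by
    intro g t u v e
    have := hf g
    rw [e] at this
    obtain ⟨h1, h2, h3⟩ := uu_inj X (t' := (f g).1) (u' := (f g).2.1) (v' := (f g).2.2) this
    exact Prod.ext h1.symm (Prod.ext h2.symm h3.symm)
  refine ⟨MonoidHom.mk' (fun g => Multiplicative.ofAdd ((f g).2.1 - (f g).1 ^ 2)) fun g h => ?_,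
    fun t u v => ?_⟩
  · obtain ⟨t, u, v, e⟩ := mem_UB X g.2
    obtain ⟨t', u', v', e'⟩ := mem_UB X h.2
    have hm : ((g * h : UB X) : GG) = _ := (congrArg₂ (· * ·) e e').trans (uu_mul X t u v t' u' v')
    simp only [hfe g _ _ _ e, hfe h _ _ _ e', hfe (g * h) _ _ _ hm, cube_eq X, ← ofAdd_add]
    congr 1
    linear_combination (-(t * t')) * (CharP.ofNat_eq_zero K 3 : (3 : K) = 0)
  · rw [MonoidHom.mk'_apply, hfe _ t u v rfl]

theorem card_GG : Nat.card GG = 1512 := by rw [card_group X]; norm_num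

theorem index_UB : (UB X).index = 56 := by
  have h1 := card_mul_index (UB X)
  rw [card_GG X, Nat.card_congr (subgroupOfEquivOfLe inf_le_right).toEquiv, card_U X] at h1
  norm_num [UB] at h1 ⊢
  omega

/-- The derived group. -/
theorem main : Nat.card (commutator GG) = 504 ∧ IsSimpleGroup (commutator GG) := by
  classical
  have : Fact (Nat.Prime 3) := ⟨Nat.prime_three⟩
  obtain ⟨φ, hφ⟩ := exists_phi X
  have hcardA : Nat.card (Multiplicative K) = 3 := by
    rw [Nat.card_congr Multiplicative.toAdd, Nat.card_eq_fintype_card, card_three X]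
  have hinv : ∀ b ∈ bor X, ∀ z (hz : z ∈ UB X) (hb : b * z * b⁻¹ ∈ UB X),
      φ ⟨_, hb⟩ = φ ⟨z, hz⟩ := by
    intro b hb z hz hbz
    obtain ⟨p, x, rfl⟩ := bor_decomp X hb
    obtain ⟨t, u, v, rfl⟩ := mem_UB X hz
    have hx : torusHom X x * uu X (t, u, v) * (torusHom X x)⁻¹ ∈ UB X := tor_conj_mem X x hz
    have e : (⟨_, hbz⟩ : UB X) = ⟨uu X p, uu_mem X p⟩ * ⟨_, hx⟩ * ⟨uu X p, uu_mem X p⟩⁻¹ := by
      refine Subtype.ext ?_
      simp only [Subgroup.coe_mul, Subgroup.coe_inv]
      group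
    rw [e, map_mul, map_mul, map_inv, mul_right_comm, mul_inv_cancel, one_mul]
    have e2 := tor_uu X x t u v
    have e3 : (⟨_, hx⟩ : UB X) = ⟨uu X (a6 0 x * t, a10 0 x * u, (x : K) * v), uu_mem X _⟩ :=
      Subtype.ext e2
    rw [e3, hφ, hφ]
    rcases units_cases X x with rfl | rfl
    · simp [a6, a10]
    · rw [a6_neg_one, a10_neg_one]; congr 1; ring
  have hτ : ∀ z (hz : z ∈ UB X), φ.transfer z = φ ⟨z, hz⟩ ^ 2 := by
    intro z hz
    rw [transfer_eq_map_pow φ z hz fun k g₀ hk => ?_, index_UB X, ← pow_mod_natCard, hcardA]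
    · rw [← map_pow]
      by_cases h1 : z ^ k = 1
      · refine congrArg φ (Subtype.ext ?_)
        simp [h1]
      obtain ⟨t, u, v, e⟩ := mem_UB X (pow_mem hz k)
      have hg : g₀ ∈ bor X := ti X (p := (t, u, v)) (e ▸ h1) (UB_le_bor X (e ▸ hk))
      have hb : g₀⁻¹ * z ^ k * g₀⁻¹⁻¹ ∈ UB X := by rwa [inv_inv]
      have := hinv g₀⁻¹ (inv_mem hg) (z ^ k) (pow_mem hz k) hb
      refine Eq.trans (congrArg φ (Subtype.ext ?_)) (this.trans (congrArg φ (Subtype.ext rfl)))
      simp
  obtain ⟨τ, hτ'⟩ : ∃ τ : GG →* Multiplicative K, τ = φ.transfer := ⟨_, rfl⟩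
  rw [← hτ'] at hτ
  have h010 : τ (uu X (0, 1, 0)) ≠ 1 := by
    rw [hτ _ (uu_mem X _), hφ, ← ofAdd_nsmul]
    intro e
    have e' : (2 : ℕ) • ((1 : K) - 0 ^ 2) = 0 := congrArg Multiplicative.toAdd e
    have : (2 : K) = 0 := by simpa using e'
    exact one_ne_zero (show (1 : K) = 0 by linear_combination (CharP.ofNat_eq_zero K 3 : (3 : K) = 0) - this)
  have hτs : τ.range = ⊤ := by
    haveI : Fact (Nat.Prime (Nat.card (Multiplicative K))) := ⟨hcardA ▸ Nat.prime_three⟩
    exact (τ.range.eq_bot_or_eq_top_of_prime_card).resolve_left fun e =>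
      h010 (Subgroup.mem_bot.1 (e ▸ ⟨_, rfl⟩))
  obtain ⟨N, hN⟩ : ∃ N, N = τ.ker := ⟨_, rfl⟩
  haveI hNn : N.Normal := hN ▸ inferInstance
  have hNc : Nat.card N = 504 := by
    have h1 := card_mul_index N
    rw [hN, index_ker, hτs, card_top, hcardA, card_GG X] at h1
    rw [hN]; omega
  have hUN : ∀ t u v : K, uu X (t, u, v) ∈ N ↔ u = t ^ 2 := by
    intro t u v
    rw [hN, MonoidHom.mem_ker, hτ _ (uu_mem X _), hφ, ← ofAdd_nsmul, ofAdd_eq_one, nsmul_eq_mul,
      mul_eq_zero, sub_eq_zero, or_iff_right]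
    intro e
    push_cast at e
    exact one_ne_zero (show (1 : K) = 0 by linear_combination (CharP.ofNat_eq_zero K 3 : (3 : K) = 0) - e)
  have htN : ∀ x : Kˣ, torusHom X x ∈ N := by
    intro x
    rw [hN, MonoidHom.mem_ker, ← orderOf_eq_one_iff]
    have h2 : torusHom X x ^ 2 = 1 := by
      rw [← map_pow]
      rcases units_cases X x with rfl | rfl <;> simp
    exact Nat.eq_one_of_dvd_coprimes (by norm_num : Nat.Coprime 2 3)
      ((orderOf_map_dvd τ _).trans (orderOf_dvd_of_pow_eq_one h2))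
      (hcardA ▸ orderOf_dvd_natCard _)
  obtain ⟨P, hP⟩ : ∃ P, P = (UB X).subgroupOf N := ⟨_, rfl⟩
  have hPc : Nat.card P = 9 := by
    let f : K × K → P := fun p => ⟨⟨uu X (p.1, p.1 ^ 2, p.2), (hUN _ _ _).2 rfl⟩,
      by rw [hP, mem_subgroupOf]; exact uu_mem X _⟩
    have hf : Function.Bijective f := by
      constructor
      · intro a b e
        obtain ⟨e1, -, e3⟩ := uu_inj X (congrArg (fun z : P => ((z : N) : GG)) e :)
        exact Prod.ext e1 e3
      · rintro ⟨⟨g, hgN⟩, hg⟩
        rw [hP, mem_subgroupOf] at hg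
        obtain ⟨t, u, v, rfl⟩ := mem_UB X hg
        obtain rfl := (hUN t u v).1 hgN
        exact ⟨(t, v), rfl⟩
    rw [← Nat.card_eq_of_bijective f hf, Nat.card_prod, Nat.card_eq_fintype_card, card_three X]
  have hcomm : IsMulCommutative P :=
    IsPGroup.isMulCommutative_of_card_eq_prime_sq (p := 3) (by rw [hPc]; norm_num)
  have hB : ∀ g : N, g ∈ normalizer (P : Set N) ↔ (g : GG) ∈ bor X := by
    intro g
    constructor
    · intro hg
      have hx : (⟨uu X (0, 0, 1), (hUN _ _ _).2 (by simp)⟩ : N) ∈ P := by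
        rw [hP, mem_subgroupOf]; exact uu_mem X _
      have h1 := (mem_normalizer_iff.1 hg _).1 hx
      rw [hP, mem_subgroupOf] at h1
      have h2 : (g : GG)⁻¹ ∈ bor X := ti X (p := (0, 0, 1))
        (fun e => by rw [← uu_zero X] at e; exact one_ne_zero (uu_inj X e).2.2)
        (UB_le_bor X (by simpa using h1))
      simpa using inv_mem h2
    · intro hg
      rw [mem_normalizer_iff]
      intro x
      rw [hP, mem_subgroupOf, mem_subgroupOf (h := g * x * g⁻¹), Subgroup.coe_mul, Subgroup.coe_mul,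
        Subgroup.coe_inv]
      refine ⟨fun h => bor_conj_mem X hg h, fun h => ?_⟩
      have := bor_conj_mem X (inv_mem hg) h
      simpa [mul_assoc] using this
  have hBc : Nat.card (normalizer (P : Set N)) = 18 := by
    let f : (K × K) × Kˣ → normalizer (P : Set N) := fun p =>
      ⟨⟨uu X (p.1.1, p.1.1 ^ 2, p.1.2) * torusHom X p.2, mul_mem ((hUN _ _ _).2 rfl) (htN _)⟩,
        (hB _).2 (mul_mem (uu_mem_bor X _) (tor_mem_bor X _))⟩
    have hf : Function.Bijective f := by
      constructor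
      · rintro ⟨⟨t, v⟩, x⟩ ⟨⟨t', v'⟩, x'⟩ e
        have e' : uu X (t, t ^ 2, v) * torusHom X x = uu X (t', t' ^ 2, v') * torusHom X x' :=
          congrArg (fun z : normalizer (P : Set N) => ((z : N) : GG)) e
        obtain ⟨a, b, c, e1⟩ := mem_UB X (mul_mem (inv_mem (uu_mem X (t', t' ^ 2, v')))
          (uu_mem X (t, t ^ 2, v)))
        have h2 : uu X (a, b, c) = torusHom X (x' * x⁻¹) := by
          rw [← e1, map_mul, map_inv, eq_mul_inv_iff_mul_eq, mul_assoc, e', inv_mul_cancel_left]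
        obtain ⟨-, h4⟩ := uu_eq_tor X h2
        rw [mul_inv_eq_one] at h4
        subst h4
        obtain ⟨rfl, -, rfl⟩ := uu_inj X (mul_right_cancel e')
        rfl
      · rintro ⟨⟨g, hgN⟩, hg⟩
        obtain ⟨⟨t, u, v⟩, x, rfl⟩ := bor_decomp X ((hB _).1 hg)
        obtain rfl := (hUN t u v).1 ((mul_mem_cancel_right (htN x)).1 hgN)
        exact ⟨((t, v), x), rfl⟩
    rw [← Nat.card_eq_of_bijective f hf, Nat.card_prod, Nat.card_prod, Nat.card_units,
      Nat.card_eq_fintype_card, card_three X]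
  have hcent : ∀ x ∈ P, x ≠ 1 → ∀ g : N, Commute g x → g ∈ P := by
    intro x hx hx1 g hg
    have hxU : (x : GG) ∈ UB X := by rwa [hP, mem_subgroupOf] at hx
    obtain ⟨t, u, v, e⟩ := mem_UB X hxU
    have hg' : Commute (g : GG) x := congrArg Subtype.val hg.eq
    have hgB : (g : GG) ∈ bor X := by
      refine ti X (p := (t, u, v)) (e ▸ fun h => hx1 (Subtype.ext h)) ?_
      rw [← e, mul_assoc, ← hg'.eq, inv_mul_cancel_left]
      exact UB_le_bor X hxU
    obtain ⟨⟨a, b, c⟩, y, hgy⟩ := bor_decomp X hgB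
    have hb := (hUN a b c).1 ((mul_mem_cancel_right (htN y)).1 (hgy ▸ g.2))
    rcases units_cases X y with rfl | rfl
    · rw [map_one, mul_one] at hgy
      rw [hP, mem_subgroupOf, hgy]; exact uu_mem X _
    · exfalso
      have hw : (⟨uu X (a, b, c), (hUN _ _ _).2 hb⟩ : N) ∈ P := by
        rw [hP, mem_subgroupOf]; exact uu_mem X _
      have hc : Commute (uu X (a, b, c)) (uu X (t, u, v)) := by
        rw [← e]
        exact congrArg (fun z : P => ((z : N) : GG)) (mul_comm' (⟨_, hw⟩ : P) ⟨x, hx⟩)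
      have h1 : torusHom X (-1) * uu X (t, u, v) * (torusHom X (-1))⁻¹ = uu X (t, u, v) := by
        rw [e, hgy] at hg'
        have h2 := hg'.eq
        rw [mul_assoc, ← mul_assoc (uu X (t, u, v)), ← hc.eq, mul_assoc (uu X (a, b, c))] at h2
        rw [mul_inv_eq_iff_eq_mul, mul_left_cancel h2]
      rw [tor_uu X, a6_neg_one, a10_neg_one] at h1
      obtain ⟨ht, -, hv⟩ := uu_inj X h1
      have h2 : (2 : K) ≠ 0 := fun e =>
        neg_one_ne_one (K := K) (by linear_combination -e)
      have ht0 : t = 0 := (mul_eq_zero.1 (show (2 : K) * t = 0 by linear_combination -ht)).resolve_left h2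
      have hv0 : v = 0 := (mul_eq_zero.1 (show (2 : K) * v = 0 by
        rw [Units.val_neg, Units.val_one] at hv; linear_combination -hv)).resolve_left h2
      have hu0 : u = 0 := by rw [(hUN t u v).1 (e ▸ x.2), ht0]; ring
      subst ht0 hv0 hu0
      exact hx1 (Subtype.ext (e.trans (uu_zero X)))
  have hsimple : IsSimpleGroup N :=
    (Frame.mk hNc hPc hcomm hBc hcent : Frame P).isSimple
  have hle : commutator GG ≤ N := hN ▸ Abelianization.commutator_subset_ker τ
  have heq : commutator GG = N := by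
    refine le_antisymm hle ?_
    rcases (Subgroup.Normal.subgroupOf (inferInstance : (commutator GG).Normal) N).eq_bot_or_eq_top
      with hb | ht
    · exfalso
      rw [subgroupOf_eq_bot, disjoint_iff, inf_eq_left.2 hle] at hb
      have h := commutator_mem_commutator (mem_top (torusHom X (-1)))
        (mem_top (uu X ((1 : K), 0, 0)))
      rw [← _root_.commutator_def, hb, mem_bot, commutatorElement_eq_one_iff_mul_comm] at h
      have h1 : torusHom X (-1) * uu X ((1 : K), 0, 0) * (torusHom X (-1))⁻¹ = uu X (1, 0, 0) := by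
        rw [h, mul_inv_cancel_right]
      rw [tor_uu X, a6_neg_one, mul_one] at h1
      exact neg_one_ne_one (uu_inj X h1).1
    · exact subgroupOf_eq_top.1 ht
  rw [heq]
  exact ⟨hNc, hsimple⟩

end Cfsg.Agent.Exceptional.ReeThree
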